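import Cfsg.Agent.H16.M.J3
import Cfsg.Agent.H16.MatR
import Cfsg.Agent.H16.Sch2
import Cfsg.Agent.H15.Cover
import Cfsg.Agent.H11.Small2
import Cfsg.Prelude.Def_Spor_J3

/-! Generated by tools/h16 (computation kit). -/

set_option maxRecDepth 100000
set_option maxHeartbeats 0

namespace H16.LJ3

open Cfsg Cfsg.Spor
def I9 : Ix F9 9 := ⟨fun j => ((j / 3 : ℕ), (j : ℕ)), fun z => 3 * z.1.val + z.2.val, by decide⟩
def e9 : F9 ≃ Fin 9 := ⟨fun z => ptF 9 (I9.idx z), fun i => I9.ι i, by decide, by decide⟩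
def q : MP := ⟨18, 5, 31, 2⟩
def om : H11.F4 := ⟨0, 1⟩
abbrev GG : Type := GL F9 H11.F4
def C0 : List ℕ := [nat_lit 0x200000000000, nat_lit 0x4000000000000, nat_lit 0x80000000000000, nat_lit 0x1000000000000000, nat_lit 0x20000000000000000, nat_lit 0x400000000000000000, nat_lit 0x8000000000000000000, nat_lit 0x100000000000000000000, nat_lit 0x2000000000000000000000, nat_lit 0x200000000001, nat_lit 0x4000000000020, nat_lit 0x80000000000400, nat_lit 0x1000000000008000, nat_lit 0x20000000000100000, nat_lit 0x400000000002000000, nat_lit 0x8000000000040000000, nat_lit 0x100000000000800000000, nat_lit 0x2000000000010000000000]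
def C1 : List ℕ := [nat_lit 1, nat_lit 0x40000420, nat_lit 0x8420, nat_lit 0x40008400, nat_lit 0x802100000, nat_lit 0x10800100000, nat_lit 0x40008020, nat_lit 0x10002100000, nat_lit 0x10802000000, nat_lit 0x200000000000, nat_lit 0x8000084000000000000, nat_lit 0x1084000000000000, nat_lit 0x8001080000000000000, nat_lit 0x100420000000000000000, nat_lit 0x2100020000000000000000, nat_lit 0x8001004000000000000, nat_lit 0x2000420000000000000000, nat_lit 0x2100400000000000000000]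
def C2 : List ℕ := [nat_lit 0x20, nat_lit 0x400, nat_lit 1, nat_lit 0x100000, nat_lit 0x400000000002000000, nat_lit 0x8000, nat_lit 0x800000000, nat_lit 0x2000000000000000000000, nat_lit 0x40000000, nat_lit 0x4000000000000, nat_lit 0x80000000000000, nat_lit 0x200000000000, nat_lit 0x20000000000000000, nat_lit 0x2000000, nat_lit 0x1000000000000000, nat_lit 0x100000000000000000000, nat_lit 0x2000000000010000000000, nat_lit 0x8000000000000000000]
def C3 : List ℕ := [nat_lit 0x400, nat_lit 1, nat_lit 0x20, nat_lit 0x2000000, nat_lit 0x8000, nat_lit 0x20000000000000000, nat_lit 0x10000000000, nat_lit 0x40000000, nat_lit 0x100000000000800000000, nat_lit 0x80000000000000, nat_lit 0x200000000000, nat_lit 0x4000000000000, nat_lit 0x400000000000000000, nat_lit 0x1000000000000000, nat_lit 0x20000000000100000, nat_lit 0x2000000000000000000000, nat_lit 0x8000000000000000000, nat_lit 0x800000000]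
def C4 : List ℕ := [nat_lit 0x21000000802100421, nat_lit 0x2108401004000800100401, nat_lit 0x20000000840100420, nat_lit 0x2108421004010040000000, nat_lit 0x2108420084010842100020, nat_lit 0x2100000000210000108001, nat_lit 0x2100420004000002108400, nat_lit 0x2108021084000002108021, nat_lit 0x100420080010800108001, nat_lit 0x100401084200000108000, nat_lit 0x2008421084210842008020, nat_lit 0x108000084000000100000, nat_lit 0x100421004010842108020, nat_lit 0x80010842100420, nat_lit 0x100021000010800000001, nat_lit 0x2100001084010802100020, nat_lit 0x2108400080210840108420, nat_lit 0x2000401080200802100400]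
def C5 : List ℕ := [nat_lit 0x400000010800000021, nat_lit 0x108021004000040008421, nat_lit 0x2100020000010840100421, nat_lit 0x100001004210042008021, nat_lit 0x2108021080200002008020, nat_lit 0x2008021004010800008021, nat_lit 0x100021004000800000420, nat_lit 0x2108421004000842008401, nat_lit 0x108421004010840000020, nat_lit 0x2100400004200002000000, nat_lit 0x100020080200840108020, nat_lit 0x8000084210800100000, nat_lit 0x2108400000000800008021, nat_lit 0x2108420084210840108401, nat_lit 0x108020000210040108020, nat_lit 0x21080000800108020, nat_lit 0x2000020084210842108020, nat_lit 0x2000421000000842108020]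
def C6 : List ℕ := [nat_lit 0x2100001000210842008020, nat_lit 0x8001004010802100421, nat_lit 0x8400080200040108421, nat_lit 0x100420080210040108020, nat_lit 0x2000421000200842008001, nat_lit 0x108021080210840008000, nat_lit 0x2100001004210840008401, nat_lit 0x8421084200042100000, nat_lit 0x108401084010842100421, nat_lit 0x8400004210800008001, nat_lit 0x2108421080200040008020, nat_lit 0x421004000042000401, nat_lit 0x2108401084200802100401, nat_lit 0x2108020000010002108001, nat_lit 0x2000020080200840108401, nat_lit 0x8000084010800008021, nat_lit 0x1084200042108421, nat_lit 0x2000021000200842008420]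
def C7 : List ℕ := [nat_lit 0x108421080210802008021, nat_lit 0x2108000004000840008401, nat_lit 0x2100401080000842008020, nat_lit 0x2108420004210800008420, nat_lit 0x100421000010002100420, nat_lit 0x2100021080000000008421, nat_lit 0x2100400084000040108021, nat_lit 0x2008401000200000108020, nat_lit 0x8020000210002108020, nat_lit 0x2008020084000842108401, nat_lit 0x2000001084210840000020, nat_lit 0x2008000084010802008400, nat_lit 0x8421080210842100021, nat_lit 0x2100001084000802108000, nat_lit 0x2100020004210800108400, nat_lit 0x2108421080210802000420, nat_lit 0x2008420004210042008001, nat_lit 0x2008401004200040100001]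
def C8 : List ℕ := [nat_lit 0x400000010002000020, nat_lit 0x8001000000040100000, nat_lit 0x108001000000840000000, nat_lit 0x2000400000210000000000, nat_lit 0x100001000000800100000, nat_lit 0x20000000840000000, nat_lit 0x80000000000000, nat_lit 0x2000000004000000000001, nat_lit 0x4000002000001, nat_lit 0x2000000004000002000000, nat_lit 0x21000000040008000, nat_lit 0x1000000840008000, nat_lit 0x400000210002000001, nat_lit 0x21000000800008000, nat_lit 0x108020000000000100000, nat_lit 0x80000000000400, nat_lit 0x2000000004210000000020, nat_lit 0x400004200000000020]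
def C9 : List ℕ := [nat_lit 0x1000010800008000, nat_lit 0x2100000000010800000001, nat_lit 0x8000000000040000000, nat_lit 0x20084000000100420, nat_lit 0x400000000002100020, nat_lit 0x1000210000008000, nat_lit 0x84000002000000, nat_lit 0x20080000002000000, nat_lit 0x100001000000800000001, nat_lit 0x2100000000000000008000, nat_lit 0x210800000000, nat_lit 0x40000000, nat_lit 0x100420, nat_lit 0x20004000002000000, nat_lit 0x2000000000200000008001, nat_lit 0x400084000000000420, nat_lit 0x420080000000100400, nat_lit 0x1000200800008000]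
def C10 : List ℕ := [nat_lit 0x400000010002000020, nat_lit 0x8001000000040100000, nat_lit 0x108001000000840000000, nat_lit 0x2000400000210000000000, nat_lit 0x100001000000800100000, nat_lit 0x20000000840000000, nat_lit 0x80000000000000, nat_lit 0x2000000004000000000001, nat_lit 0x4000002000001, nat_lit 0x2000000004000002000000, nat_lit 0x21000000040008000, nat_lit 0x1000000840008000, nat_lit 0x400000210002000001, nat_lit 0x21000000800008000, nat_lit 0x108020000000000100000, nat_lit 0x80000000000400, nat_lit 0x2000000004210000000020, nat_lit 0x400004200000000020]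
def C11 : List ℕ := [nat_lit 0x1000010800008000, nat_lit 0x2100000000010800000001, nat_lit 0x8000000000040000000, nat_lit 0x20084000000100420, nat_lit 0x400000000002100020, nat_lit 0x1000210000008000, nat_lit 0x84000002000000, nat_lit 0x20080000002000000, nat_lit 0x100001000000800000001, nat_lit 0x2100000000000000008000, nat_lit 0x210800000000, nat_lit 0x40000000, nat_lit 0x100420, nat_lit 0x20004000002000000, nat_lit 0x2000000000200000008001, nat_lit 0x400084000000000420, nat_lit 0x420080000000100400, nat_lit 0x1000200800008000]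
def C12 : List ℕ := [nat_lit 0x2100420000010040108020, nat_lit 0x2008401000000802108421, nat_lit 0x108021000010842000020, nat_lit 0x100020084010800008401, nat_lit 0x2108001080210042108420, nat_lit 0x2100000004200840100401, nat_lit 0x100020084000842000021, nat_lit 0x8421080210800100021, nat_lit 0x420004200802008420, nat_lit 0x108401004010802100000, nat_lit 0x2108020084210042008000, nat_lit 0x2000421004000840108000, nat_lit 0x2000021004200800100420, nat_lit 0x100420004210840008401, nat_lit 0x2008020084010800000021, nat_lit 0x8420080200800100420, nat_lit 0x2108401084000042108401, nat_lit 0x100021080200002100021]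
def C13 : List ℕ := [nat_lit 0x2008400000000802008420, nat_lit 0x2100421004200842108401, nat_lit 0x401084210002108021, nat_lit 0x2100400000200000100421, nat_lit 0x2000421080000802008420, nat_lit 0x8001000010000100421, nat_lit 0x100400004210800000020, nat_lit 0x2100021000210040100021, nat_lit 0x2008421084200842000400, nat_lit 0x2108001084010042000000, nat_lit 0x2008000084010802108021, nat_lit 0x2000020080000002008421, nat_lit 0x2100420084010802000001, nat_lit 0x2100020004010002108400, nat_lit 0x2008021084200040008000, nat_lit 0x2000400000200802000021, nat_lit 0x108001004010800108001, nat_lit 0x2100021004210042108421]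
def C : List (List ℕ) := [C0, C1, C2] ++ [C3, C4, C5, C6, C7, C8, C9, C10, C11, C12, C13]
def SL : List (List ℕ) := [[nat_lit 2],
  [nat_lit 2, nat_lit 1, nat_lit 3, nat_lit 3, nat_lit 3, nat_lit 3, nat_lit 1, nat_lit 2, nat_lit 2, nat_lit 1],
  [nat_lit 4],
  [nat_lit 3, nat_lit 1, nat_lit 2, nat_lit 1, nat_lit 3, nat_lit 3, nat_lit 1, nat_lit 2, nat_lit 2, nat_lit 1, nat_lit 3, nat_lit 3, nat_lit 1, nat_lit 3, nat_lit 3],
  [nat_lit 6],
  [nat_lit 7, nat_lit 5, nat_lit 6, nat_lit 6, nat_lit 5, nat_lit 6, nat_lit 6, nat_lit 4, nat_lit 4, nat_lit 7, nat_lit 7],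
  [nat_lit 8],
  [nat_lit 9],
  [nat_lit 10],
  [nat_lit 4, nat_lit 6, nat_lit 6, nat_lit 11, nat_lit 7, nat_lit 4],
  [nat_lit 11, nat_lit 12, nat_lit 10, nat_lit 12, nat_lit 10, nat_lit 10, nat_lit 12, nat_lit 11, nat_lit 12, nat_lit 10, nat_lit 10, nat_lit 12, nat_lit 11, nat_lit 12, nat_lit 10, nat_lit 12, nat_lit 10, nat_lit 10, nat_lit 12, nat_lit 10, nat_lit 12, nat_lit 10, nat_lit 3, nat_lit 12, nat_lit 10, nat_lit 12, nat_lit 2, nat_lit 2]]
def σ : List ℕ := [nat_lit 10, nat_lit 11, nat_lit 12, nat_lit 13]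
def E : List (List ℕ) := [[],
  [],
  [],
  [nat_lit 0, nat_lit 0],
  [],
  [],
  [],
  [],
  [nat_lit 0, nat_lit 0],
  [],
  [nat_lit 0, nat_lit 0],
  [nat_lit 0],
  [],
  [nat_lit 0],
  [nat_lit 0, nat_lit 0]]
def b0 : GG := glR (matR I9 om 2 5 C0) (matR I9 om 2 5 [nat_lit 0x200000000001, nat_lit 0x4000000000020, nat_lit 0x80000000000400, nat_lit 0x1000000000008000, nat_lit 0x20000000000100000, nat_lit 0x400000000002000000, nat_lit 0x8000000000040000000, nat_lit 0x100000000000800000000, nat_lit 0x2000000000010000000000])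
  (by decide +kernel)
theorem col0 : Cols q (rhoGL _ _) (eR I9 om) ⊥ b0 C0 := cols_R (s := 2) I9 om rfl (by decide +kernel)
def b1 : GG := glR (matR I9 om 2 5 C1) (matR I9 om 2 5 [nat_lit 1, nat_lit 0x40000420, nat_lit 0x8420, nat_lit 0x40008400, nat_lit 0x802100000, nat_lit 0x10800100000, nat_lit 0x40008020, nat_lit 0x10002100000, nat_lit 0x10802000000])
  (by decide +kernel)
theorem col1 : Cols q (rhoGL _ _) (eR I9 om) ⊥ b1 C1 := cols_R (s := 2) I9 om rfl (by decide +kernel)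
def b2 : GG := glR (matR I9 om 2 5 C2) (matR I9 om 2 5 [nat_lit 0x400, nat_lit 1, nat_lit 0x20, nat_lit 0x2000000, nat_lit 0x8000, nat_lit 0x20000000000000000, nat_lit 0x10000000000, nat_lit 0x40000000, nat_lit 0x100000000000800000000])
  (by decide +kernel)
theorem col2 : Cols q (rhoGL _ _) (eR I9 om) ⊥ b2 C2 := cols_R (s := 2) I9 om rfl (by decide +kernel)
def OW : List (List ℕ) := [[],
  [nat_lit 0, nat_lit 2, nat_lit 0, nat_lit 0, nat_lit 2, nat_lit 0, nat_lit 2, nat_lit 0, nat_lit 0, nat_lit 2, nat_lit 0, nat_lit 2, nat_lit 1, nat_lit 2, nat_lit 0, nat_lit 2, nat_lit 1, nat_lit 2, nat_lit 0, nat_lit 2, nat_lit 3, nat_lit 1, nat_lit 3, nat_lit 0, nat_lit 2, nat_lit 0, nat_lit 0, nat_lit 2, nat_lit 1, nat_lit 3, nat_lit 0, nat_lit 0, nat_lit 2, nat_lit 0],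
  [nat_lit 2, nat_lit 0, nat_lit 2, nat_lit 0, nat_lit 0, nat_lit 2, nat_lit 1, nat_lit 2, nat_lit 0, nat_lit 0, nat_lit 2, nat_lit 1, nat_lit 2, nat_lit 0, nat_lit 0, nat_lit 2, nat_lit 0, nat_lit 0, nat_lit 3, nat_lit 1, nat_lit 2, nat_lit 0, nat_lit 0, nat_lit 2, nat_lit 1, nat_lit 3, nat_lit 0, nat_lit 2, nat_lit 1, nat_lit 3, nat_lit 0, nat_lit 2],
  [nat_lit 2, nat_lit 0, nat_lit 2, nat_lit 1, nat_lit 2, nat_lit 0, nat_lit 0, nat_lit 2, nat_lit 0, nat_lit 2, nat_lit 0, nat_lit 0, nat_lit 2, nat_lit 0, nat_lit 3, nat_lit 0, nat_lit 2, nat_lit 0, nat_lit 3, nat_lit 0, nat_lit 2, nat_lit 1, nat_lit 3, nat_lit 1, nat_lit 2, nat_lit 0, nat_lit 3],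
  [nat_lit 2, nat_lit 0, nat_lit 2, nat_lit 1, nat_lit 2, nat_lit 0, nat_lit 0, nat_lit 2, nat_lit 0, nat_lit 2, nat_lit 1, nat_lit 2, nat_lit 0, nat_lit 2, nat_lit 0, nat_lit 2, nat_lit 3, nat_lit 0, nat_lit 3, nat_lit 1, nat_lit 2, nat_lit 1, nat_lit 2, nat_lit 3, nat_lit 0, nat_lit 0, nat_lit 2, nat_lit 3, nat_lit 3, nat_lit 3, nat_lit 3],
  [nat_lit 2, nat_lit 0, nat_lit 2, nat_lit 0, nat_lit 0, nat_lit 2, nat_lit 1, nat_lit 2, nat_lit 0, nat_lit 0, nat_lit 2, nat_lit 0, nat_lit 2, nat_lit 0, nat_lit 0, nat_lit 2, nat_lit 1, nat_lit 2, nat_lit 3, nat_lit 1, nat_lit 2, nat_lit 0, nat_lit 0, nat_lit 3, nat_lit 0, nat_lit 2, nat_lit 0, nat_lit 0, nat_lit 3, nat_lit 3, nat_lit 3, nat_lit 3],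
  [nat_lit 0, nat_lit 2, nat_lit 0, nat_lit 2, nat_lit 0, nat_lit 2, nat_lit 1, nat_lit 2, nat_lit 0, nat_lit 2, nat_lit 0, nat_lit 0, nat_lit 2, nat_lit 0, nat_lit 2, nat_lit 3, nat_lit 0, nat_lit 2, nat_lit 0, nat_lit 2, nat_lit 1, nat_lit 2, nat_lit 0, nat_lit 2, nat_lit 1, nat_lit 3, nat_lit 0, nat_lit 3],
  [nat_lit 0, nat_lit 2, nat_lit 0, nat_lit 2, nat_lit 0, nat_lit 2, nat_lit 1, nat_lit 2, nat_lit 0, nat_lit 2, nat_lit 1, nat_lit 2, nat_lit 3, nat_lit 0, nat_lit 2, nat_lit 3, nat_lit 0, nat_lit 2, nat_lit 3, nat_lit 0, nat_lit 2, nat_lit 1, nat_lit 2, nat_lit 1, nat_lit 3, nat_lit 3, nat_lit 3, nat_lit 3],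
  [nat_lit 1, nat_lit 2, nat_lit 0, nat_lit 2, nat_lit 1, nat_lit 2, nat_lit 0, nat_lit 0, nat_lit 2, nat_lit 1, nat_lit 2, nat_lit 0, nat_lit 0, nat_lit 2, nat_lit 1, nat_lit 2, nat_lit 1, nat_lit 2, nat_lit 0, nat_lit 2, nat_lit 0, nat_lit 3, nat_lit 0, nat_lit 0, nat_lit 2, nat_lit 3, nat_lit 0, nat_lit 2, nat_lit 0, nat_lit 3, nat_lit 1, nat_lit 2],
  [nat_lit 0, nat_lit 0, nat_lit 2, nat_lit 0, nat_lit 2, nat_lit 0, nat_lit 2, nat_lit 1, nat_lit 2, nat_lit 0, nat_lit 2, nat_lit 0, nat_lit 0, nat_lit 2, nat_lit 1, nat_lit 2, nat_lit 1, nat_lit 3, nat_lit 1, nat_lit 2, nat_lit 3, nat_lit 1, nat_lit 2, nat_lit 3, nat_lit 1, nat_lit 2, nat_lit 1, nat_lit 3, nat_lit 3, nat_lit 3, nat_lit 3],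
  [nat_lit 1, nat_lit 2, nat_lit 1, nat_lit 2, nat_lit 0, nat_lit 2, nat_lit 1, nat_lit 2, nat_lit 1, nat_lit 2, nat_lit 0, nat_lit 2, nat_lit 0, nat_lit 2, nat_lit 1, nat_lit 2, nat_lit 0, nat_lit 3, nat_lit 0, nat_lit 2, nat_lit 0, nat_lit 3, nat_lit 0, nat_lit 0, nat_lit 3, nat_lit 1, nat_lit 2, nat_lit 0, nat_lit 0, nat_lit 3, nat_lit 3],
  [nat_lit 0, nat_lit 2, nat_lit 0, nat_lit 0, nat_lit 2, nat_lit 0, nat_lit 2, nat_lit 0, nat_lit 0, nat_lit 2, nat_lit 0, nat_lit 2, nat_lit 1, nat_lit 2, nat_lit 0, nat_lit 0, nat_lit 2, nat_lit 1, nat_lit 2, nat_lit 1, nat_lit 3, nat_lit 0, nat_lit 2, nat_lit 0, nat_lit 0, nat_lit 2, nat_lit 3, nat_lit 0, nat_lit 0, nat_lit 3],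
  [nat_lit 0, nat_lit 0, nat_lit 2, nat_lit 1, nat_lit 2, nat_lit 0, nat_lit 0, nat_lit 2, nat_lit 0, nat_lit 2, nat_lit 1, nat_lit 2, nat_lit 0, nat_lit 0, nat_lit 2, nat_lit 1, nat_lit 2, nat_lit 0, nat_lit 2, nat_lit 1, nat_lit 3, nat_lit 0, nat_lit 2, nat_lit 0, nat_lit 3, nat_lit 0, nat_lit 0, nat_lit 3, nat_lit 1, nat_lit 2, nat_lit 1, nat_lit 3, nat_lit 3],
  [nat_lit 1, nat_lit 2, nat_lit 0, nat_lit 2, nat_lit 1, nat_lit 2, nat_lit 0, nat_lit 2, nat_lit 1, nat_lit 2, nat_lit 0, nat_lit 0, nat_lit 2, nat_lit 1, nat_lit 2, nat_lit 0, nat_lit 2, nat_lit 1, nat_lit 3, nat_lit 0, nat_lit 2, nat_lit 3, nat_lit 0, nat_lit 2, nat_lit 3, nat_lit 0, nat_lit 2, nat_lit 1, nat_lit 3, nat_lit 0, nat_lit 2, nat_lit 0, nat_lit 3, nat_lit 3, nat_lit 3, nat_lit 3],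
  [nat_lit 0, nat_lit 2, nat_lit 1, nat_lit 2, nat_lit 0, nat_lit 2, nat_lit 1, nat_lit 2, nat_lit 0, nat_lit 0, nat_lit 2, nat_lit 1, nat_lit 2, nat_lit 0, nat_lit 2, nat_lit 0, nat_lit 0, nat_lit 2, nat_lit 0, nat_lit 2, nat_lit 3, nat_lit 1, nat_lit 2, nat_lit 0, nat_lit 0, nat_lit 2, nat_lit 0, nat_lit 3, nat_lit 0, nat_lit 0, nat_lit 2, nat_lit 1, nat_lit 3, nat_lit 3, nat_lit 3, nat_lit 3],
  [nat_lit 0, nat_lit 0, nat_lit 2, nat_lit 0, nat_lit 0, nat_lit 2, nat_lit 0, nat_lit 2, nat_lit 0, nat_lit 0, nat_lit 2, nat_lit 0, nat_lit 2, nat_lit 1, nat_lit 2, nat_lit 0, nat_lit 0, nat_lit 2, nat_lit 1, nat_lit 2, nat_lit 1, nat_lit 3, nat_lit 0, nat_lit 2, nat_lit 0, nat_lit 0, nat_lit 2, nat_lit 3, nat_lit 0, nat_lit 0, nat_lit 3, nat_lit 1],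
  [nat_lit 0, nat_lit 2, nat_lit 1, nat_lit 2, nat_lit 0, nat_lit 2, nat_lit 1, nat_lit 2, nat_lit 0, nat_lit 2, nat_lit 1, nat_lit 2, nat_lit 0, nat_lit 2, nat_lit 1, nat_lit 2, nat_lit 0, nat_lit 0, nat_lit 2, nat_lit 3, nat_lit 1, nat_lit 2, nat_lit 3, nat_lit 0, nat_lit 0, nat_lit 2, nat_lit 0, nat_lit 3, nat_lit 0, nat_lit 3, nat_lit 3],
  [nat_lit 1, nat_lit 2, nat_lit 0, nat_lit 0, nat_lit 2, nat_lit 0, nat_lit 2, nat_lit 1, nat_lit 2, nat_lit 0, nat_lit 2, nat_lit 1, nat_lit 2, nat_lit 0, nat_lit 2, nat_lit 1, nat_lit 3, nat_lit 1, nat_lit 2, nat_lit 0, nat_lit 2, nat_lit 0, nat_lit 3, nat_lit 1, nat_lit 3, nat_lit 3, nat_lit 3],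
  [],
  [nat_lit 2, nat_lit 0, nat_lit 0, nat_lit 2, nat_lit 0, nat_lit 2, nat_lit 0, nat_lit 0, nat_lit 2, nat_lit 0, nat_lit 2, nat_lit 0, nat_lit 0, nat_lit 2, nat_lit 0, nat_lit 3, nat_lit 1, nat_lit 2, nat_lit 1, nat_lit 2, nat_lit 3, nat_lit 0, nat_lit 0, nat_lit 2, nat_lit 0, nat_lit 3, nat_lit 3, nat_lit 3, nat_lit 3],
  [nat_lit 0, nat_lit 2, nat_lit 0, nat_lit 0, nat_lit 2, nat_lit 1, nat_lit 2, nat_lit 0, nat_lit 2, nat_lit 1, nat_lit 2, nat_lit 0, nat_lit 2, nat_lit 1, nat_lit 2, nat_lit 0, nat_lit 2, nat_lit 0, nat_lit 2, nat_lit 1, nat_lit 3, nat_lit 0, nat_lit 2, nat_lit 0, nat_lit 3, nat_lit 1, nat_lit 2, nat_lit 0, nat_lit 2, nat_lit 0, nat_lit 2, nat_lit 3, nat_lit 3, nat_lit 3, nat_lit 3],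
  [nat_lit 2, nat_lit 0, nat_lit 2, nat_lit 0, nat_lit 0, nat_lit 2, nat_lit 0, nat_lit 2, nat_lit 1, nat_lit 2, nat_lit 0, nat_lit 0, nat_lit 2, nat_lit 1, nat_lit 2, nat_lit 0, nat_lit 0, nat_lit 2, nat_lit 1, nat_lit 2, nat_lit 1, nat_lit 3, nat_lit 0, nat_lit 0, nat_lit 3, nat_lit 0, nat_lit 2, nat_lit 0, nat_lit 3, nat_lit 0, nat_lit 3, nat_lit 3, nat_lit 3, nat_lit 3, nat_lit 3],
  [nat_lit 1, nat_lit 2, nat_lit 1, nat_lit 2, nat_lit 0, nat_lit 2, nat_lit 0, nat_lit 0, nat_lit 2, nat_lit 0, nat_lit 2, nat_lit 0, nat_lit 0, nat_lit 2, nat_lit 1, nat_lit 2, nat_lit 0, nat_lit 2, nat_lit 1, nat_lit 2, nat_lit 3, nat_lit 0, nat_lit 0, nat_lit 2, nat_lit 1, nat_lit 3, nat_lit 0, nat_lit 2, nat_lit 1, nat_lit 2, nat_lit 1],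
  [nat_lit 2, nat_lit 0, nat_lit 0, nat_lit 2, nat_lit 0, nat_lit 2, nat_lit 0, nat_lit 0, nat_lit 2, nat_lit 1, nat_lit 2, nat_lit 0, nat_lit 0, nat_lit 2, nat_lit 1, nat_lit 2, nat_lit 1, nat_lit 3, nat_lit 0, nat_lit 0, nat_lit 2, nat_lit 0, nat_lit 2, nat_lit 0, nat_lit 0, nat_lit 3, nat_lit 1, nat_lit 2, nat_lit 0, nat_lit 2, nat_lit 1, nat_lit 3, nat_lit 3, nat_lit 3, nat_lit 3],
  [nat_lit 2, nat_lit 1, nat_lit 2, nat_lit 0, nat_lit 0, nat_lit 2, nat_lit 0, nat_lit 2, nat_lit 0, nat_lit 0, nat_lit 2, nat_lit 1, nat_lit 2, nat_lit 1, nat_lit 2, nat_lit 0, nat_lit 2, nat_lit 3, nat_lit 0, nat_lit 2, nat_lit 1, nat_lit 3, nat_lit 0, nat_lit 2, nat_lit 3, nat_lit 0, nat_lit 0, nat_lit 3],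
  [nat_lit 1, nat_lit 2, nat_lit 1, nat_lit 2, nat_lit 0, nat_lit 2, nat_lit 1, nat_lit 2, nat_lit 0, nat_lit 0, nat_lit 2, nat_lit 1, nat_lit 2, nat_lit 1, nat_lit 2, nat_lit 3, nat_lit 0, nat_lit 2, nat_lit 0, nat_lit 3, nat_lit 0, nat_lit 2, nat_lit 3, nat_lit 0, nat_lit 2, nat_lit 1, nat_lit 3, nat_lit 0, nat_lit 3],
  [nat_lit 1, nat_lit 2, nat_lit 0, nat_lit 2, nat_lit 0, nat_lit 0, nat_lit 2, nat_lit 0, nat_lit 2, nat_lit 0, nat_lit 0, nat_lit 2, nat_lit 0, nat_lit 2, nat_lit 0, nat_lit 2, nat_lit 1, nat_lit 2, nat_lit 1, nat_lit 2, nat_lit 0, nat_lit 3, nat_lit 0, nat_lit 0, nat_lit 2, nat_lit 1, nat_lit 3, nat_lit 0, nat_lit 0, nat_lit 2, nat_lit 3, nat_lit 3, nat_lit 3],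
  [nat_lit 0, nat_lit 0, nat_lit 2, nat_lit 0, nat_lit 2, nat_lit 0, nat_lit 0, nat_lit 2, nat_lit 0, nat_lit 2, nat_lit 1, nat_lit 2, nat_lit 0, nat_lit 2, nat_lit 1, nat_lit 2, nat_lit 0, nat_lit 2, nat_lit 0, nat_lit 2, nat_lit 1, nat_lit 3, nat_lit 0, nat_lit 2, nat_lit 1, nat_lit 2, nat_lit 3, nat_lit 0, nat_lit 2, nat_lit 0, nat_lit 0, nat_lit 2, nat_lit 1, nat_lit 3, nat_lit 3, nat_lit 3, nat_lit 3, nat_lit 3],
  [nat_lit 1, nat_lit 2, nat_lit 0, nat_lit 2, nat_lit 1, nat_lit 2, nat_lit 0, nat_lit 2, nat_lit 0, nat_lit 0, nat_lit 2, nat_lit 0, nat_lit 2, nat_lit 0, nat_lit 2, nat_lit 3, nat_lit 0, nat_lit 2, nat_lit 3, nat_lit 0, nat_lit 2, nat_lit 1, nat_lit 3, nat_lit 0, nat_lit 2, nat_lit 3, nat_lit 3, nat_lit 3, nat_lit 3],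
  [],
  [nat_lit 0, nat_lit 0, nat_lit 2, nat_lit 0, nat_lit 0, nat_lit 2, nat_lit 1, nat_lit 2, nat_lit 0, nat_lit 0, nat_lit 2, nat_lit 1, nat_lit 2, nat_lit 0, nat_lit 2, nat_lit 1, nat_lit 2, nat_lit 0, nat_lit 2, nat_lit 1, nat_lit 2, nat_lit 3, nat_lit 0, nat_lit 2, nat_lit 3, nat_lit 1, nat_lit 3, nat_lit 0, nat_lit 2],
  [nat_lit 0, nat_lit 2, nat_lit 0, nat_lit 0, nat_lit 2, nat_lit 0, nat_lit 2, nat_lit 1, nat_lit 2, nat_lit 0, nat_lit 0, nat_lit 2, nat_lit 1, nat_lit 2, nat_lit 0, nat_lit 0, nat_lit 2, nat_lit 1, nat_lit 2, nat_lit 0, nat_lit 2, nat_lit 3, nat_lit 0, nat_lit 3, nat_lit 1, nat_lit 2, nat_lit 0, nat_lit 2, nat_lit 1, nat_lit 2, nat_lit 0, nat_lit 3, nat_lit 3, nat_lit 3],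
  [nat_lit 1, nat_lit 2, nat_lit 0, nat_lit 2, nat_lit 0, nat_lit 0, nat_lit 2, nat_lit 1, nat_lit 2, nat_lit 0, nat_lit 0, nat_lit 2, nat_lit 0, nat_lit 2, nat_lit 0, nat_lit 0, nat_lit 2, nat_lit 1, nat_lit 2, nat_lit 0, nat_lit 0, nat_lit 3, nat_lit 1, nat_lit 2, nat_lit 0, nat_lit 0, nat_lit 3, nat_lit 0, nat_lit 0, nat_lit 2, nat_lit 3, nat_lit 0, nat_lit 0],
  [nat_lit 1, nat_lit 2, nat_lit 0, nat_lit 2, nat_lit 0, nat_lit 0, nat_lit 2, nat_lit 1, nat_lit 2, nat_lit 0, nat_lit 0, nat_lit 2, nat_lit 0, nat_lit 2, nat_lit 0, nat_lit 2, nat_lit 1, nat_lit 2, nat_lit 1, nat_lit 2, nat_lit 0, nat_lit 3, nat_lit 1, nat_lit 2, nat_lit 0, nat_lit 0, nat_lit 2, nat_lit 1, nat_lit 3, nat_lit 0, nat_lit 2, nat_lit 1, nat_lit 3, nat_lit 0, nat_lit 3, nat_lit 3, nat_lit 3, nat_lit 3],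
  [nat_lit 1, nat_lit 2, nat_lit 0, nat_lit 0, nat_lit 2, nat_lit 0, nat_lit 2, nat_lit 0, nat_lit 0, nat_lit 2, nat_lit 0, nat_lit 2, nat_lit 1, nat_lit 2, nat_lit 0, nat_lit 2, nat_lit 1, nat_lit 2, nat_lit 0, nat_lit 3, nat_lit 0, nat_lit 0, nat_lit 2, nat_lit 0, nat_lit 2, nat_lit 1, nat_lit 3, nat_lit 0, nat_lit 3, nat_lit 1, nat_lit 3, nat_lit 3, nat_lit 3],
  [nat_lit 0, nat_lit 0, nat_lit 2, nat_lit 0, nat_lit 2, nat_lit 1, nat_lit 2, nat_lit 0, nat_lit 2, nat_lit 0, nat_lit 0, nat_lit 2, nat_lit 0, nat_lit 2, nat_lit 0, nat_lit 0, nat_lit 2, nat_lit 1, nat_lit 2, nat_lit 1, nat_lit 2, nat_lit 3, nat_lit 1, nat_lit 3, nat_lit 0, nat_lit 2, nat_lit 1, nat_lit 3, nat_lit 0, nat_lit 0, nat_lit 2, nat_lit 0, nat_lit 0, nat_lit 3],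
  [nat_lit 2, nat_lit 0, nat_lit 0, nat_lit 2, nat_lit 0, nat_lit 2, nat_lit 0, nat_lit 0, nat_lit 2, nat_lit 1, nat_lit 2, nat_lit 0, nat_lit 0, nat_lit 2, nat_lit 1, nat_lit 2, nat_lit 0, nat_lit 2, nat_lit 3, nat_lit 1, nat_lit 2, nat_lit 0, nat_lit 0, nat_lit 2, nat_lit 3, nat_lit 1, nat_lit 2, nat_lit 3, nat_lit 0, nat_lit 2, nat_lit 3, nat_lit 3, nat_lit 3, nat_lit 3, nat_lit 3],
  [nat_lit 0, nat_lit 0, nat_lit 2, nat_lit 0, nat_lit 0, nat_lit 2, nat_lit 0, nat_lit 2, nat_lit 0, nat_lit 0, nat_lit 2, nat_lit 1, nat_lit 2, nat_lit 0, nat_lit 0, nat_lit 2, nat_lit 1, nat_lit 2, nat_lit 0, nat_lit 3, nat_lit 0, nat_lit 2, nat_lit 0, nat_lit 3, nat_lit 1, nat_lit 3, nat_lit 0, nat_lit 2, nat_lit 0, nat_lit 0, nat_lit 3, nat_lit 0],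
  [nat_lit 2, nat_lit 0, nat_lit 0, nat_lit 2, nat_lit 0, nat_lit 2, nat_lit 3, nat_lit 0, nat_lit 0, nat_lit 2, nat_lit 0, nat_lit 2, nat_lit 3, nat_lit 0, nat_lit 0, nat_lit 2, nat_lit 0, nat_lit 3],
  [nat_lit 0, nat_lit 0, nat_lit 2, nat_lit 1, nat_lit 2, nat_lit 0, nat_lit 2, nat_lit 1, nat_lit 2, nat_lit 0, nat_lit 0, nat_lit 2, nat_lit 0, nat_lit 2, nat_lit 1, nat_lit 2, nat_lit 0, nat_lit 2, nat_lit 0, nat_lit 2, nat_lit 1, nat_lit 2, nat_lit 1, nat_lit 3, nat_lit 1, nat_lit 2, nat_lit 0, nat_lit 0, nat_lit 2, nat_lit 1, nat_lit 2, nat_lit 0, nat_lit 0, nat_lit 2, nat_lit 3],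
  [nat_lit 0, nat_lit 0, nat_lit 2, nat_lit 0, nat_lit 2, nat_lit 0, nat_lit 0, nat_lit 2, nat_lit 0, nat_lit 2, nat_lit 1, nat_lit 2, nat_lit 0, nat_lit 2, nat_lit 0, nat_lit 0, nat_lit 2, nat_lit 1, nat_lit 2, nat_lit 1, nat_lit 2, nat_lit 0, nat_lit 3, nat_lit 0, nat_lit 0, nat_lit 2, nat_lit 1, nat_lit 3, nat_lit 0, nat_lit 2, nat_lit 0, nat_lit 2, nat_lit 3, nat_lit 3],
  [nat_lit 0, nat_lit 0, nat_lit 2, nat_lit 0, nat_lit 0, nat_lit 2, nat_lit 0, nat_lit 2, nat_lit 1, nat_lit 2, nat_lit 0, nat_lit 2, nat_lit 1, nat_lit 2, nat_lit 0, nat_lit 2, nat_lit 3, nat_lit 0, nat_lit 0, nat_lit 2, nat_lit 3, nat_lit 0, nat_lit 0, nat_lit 2, nat_lit 1, nat_lit 3, nat_lit 1, nat_lit 2, nat_lit 0],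
  [nat_lit 1, nat_lit 2, nat_lit 0, nat_lit 2, nat_lit 1, nat_lit 2, nat_lit 0, nat_lit 2, nat_lit 1, nat_lit 2, nat_lit 0, nat_lit 2, nat_lit 1, nat_lit 3, nat_lit 1, nat_lit 2, nat_lit 0, nat_lit 0, nat_lit 3, nat_lit 0, nat_lit 2, nat_lit 3, nat_lit 1, nat_lit 2, nat_lit 3, nat_lit 3, nat_lit 3, nat_lit 3, nat_lit 3]]
def zw : List ℕ := [nat_lit 3, nat_lit 3, nat_lit 3, nat_lit 3]

theorem slpe_a : allZ2 (slpEnt (nat_lit 18) (nat_lit 5) (nat_lit 31) (nat_lit 2) C (nat_lit 3) SL) (nat_lit 11) (nat_lit 18) = true := by decide +kernel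
theorem rele_a : allZ2 (relEnt (nat_lit 18) (nat_lit 5) (nat_lit 31) (nat_lit 2) C (nat_lit 14) σ J3.Rl E) (nat_lit 15) (nat_lit 9) = true := by decide +kernel
theorem misc : q.OK ∧ SL.length = 11 ∧ J3.Rl.length = 15 ∧ allL (ltAll 1) E = true := by decide +kernel
theorem genA : ∀ Z, ltAll 14 ((nth [] OW (0 + I9.idx Z)).map (nth 0 σ)) = 0 ∧ ∀ j, ∀ x ∈ [apM q.w q.m q.p C ((nth [] OW (0 + I9.idx Z)).map (nth 0 σ)) (unitV q.w (I9.idx j))], ∀ i,
    j3A H11.F4 om Z i j = valR om 9 2 q.w x (I9.idx i) := by decide +kernel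
theorem genD : ∀ Z, ltAll 14 ((nth [] OW (18 + I9.idx Z)).map (nth 0 σ)) = 0 ∧ ∀ j, ∀ x ∈ [apM q.w q.m q.p C ((nth [] OW (18 + I9.idx Z)).map (nth 0 σ)) (unitV q.w (I9.idx j))], ∀ i,
    j3D H11.F4 om Z i j = valR om 9 2 q.w x (I9.idx i) := by decide +kernel
theorem genE : ∀ Z, ltAll 14 ((nth [] OW (9 + I9.idx Z)).map (nth 0 σ)) = 0 ∧ ∀ j, ∀ x ∈ [apM q.w q.m q.p C ((nth [] OW (9 + I9.idx Z)).map (nth 0 σ)) (unitV q.w (I9.idx j))], ∀ i,
    j3E H11.F4 om Z i j = valR om 9 2 q.w x (I9.idx i) := by decide +kernel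
theorem genB : ∀ Z, Z ≠ 0 → ltAll 14 ((nth [] OW (26 + I9.idx Z)).map (nth 0 σ)) = 0 ∧ ∀ j, ∀ x ∈ [apM q.w q.m q.p C ((nth [] OW (26 + I9.idx Z)).map (nth 0 σ)) (unitV q.w (I9.idx j))], ∀ i,
    j3B H11.F4 Z i j = valR om 9 2 q.w x (I9.idx i) := by decide +kernel
theorem genC : ∀ Z, Z ≠ 0 → ltAll 14 ((nth [] OW (34 + I9.idx Z)).map (nth 0 σ)) = 0 ∧ ∀ j, ∀ x ∈ [apM q.w q.m q.p C ((nth [] OW (34 + I9.idx Z)).map (nth 0 σ)) (unitV q.w (I9.idx j))], ∀ i,
    j3C H11.F4 Z i j = valR om 9 2 q.w x (I9.idx i) := by decide +kernel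
theorem genZ : ltAll 14 ((zw).map (nth 0 σ)) = 0 ∧ ∀ j, ∀ x ∈ [apM q.w q.m q.p C ((zw).map (nth 0 σ)) (unitV q.w (I9.idx j))], ∀ i,
    (b0 : Matrix F9 F9 H11.F4) i j = valR om 9 2 q.w x (I9.idx i) := by decide +kernel
theorem owc : allL (ltAll 4) OW = true ∧ ltAll 4 zw = 0 := by decide +kernel

theorem slpe : ∀ k < 11, ∀ i < 18, (slpEnt (nat_lit 18) (nat_lit 5) (nat_lit 31) (nat_lit 2) C (nat_lit 3) SL) k i = 0 := allZ2_sound slpe_a
theorem rele : ∀ k < 15, ∀ i < 9, (relEnt (nat_lit 18) (nat_lit 5) (nat_lit 31) (nat_lit 2) C (nat_lit 14) σ J3.Rl E) k i = 0 := allZ2_sound rele_a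
def o : List GG := [b0, b1, b2]
theorem amb : Amb q (rhoGL _ _) (eR I9 om) ⊥ := amb_GL misc.1 (by decide +kernel)
noncomputable def hs : ℕ → GG := slpG SL (tup o) o.length
theorem mact : MAct q (rhoGL _ _) (eR I9 om) ⊥ hs C 14 :=
  (mact_tup (.cons col0 (.cons col1 (.cons col2 .nil)))).slp amb (misc.2.1 ▸ slpe)
/-- the letters of the model as matrices -/
noncomputable def h : ℕ → GG := fun k => hs (nth 0 σ k)
theorem h_mem {A : Subgroup GG} (hA : ∀ a ∈ o, a ∈ A) (k : ℕ) : h k ∈ A := lnk_mem hA SL σ k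
theorem rels_of {Q : Type*} [Group Q] (π : GG →* Q) (hz : π b0 = 1) : Rels (fun k => π (h k)) J3.Rl :=
  mact.rels_z amb (rigid_R _ _) (by decide) misc.2.2 rele π ((congrArg π (slpG_zero SL b0 _)).trans hz)
theorem word_eq {W : List ℕ} {M : Matrix F9 F9 H11.F4} (hc : ltAll 14 (W.map (nth 0 σ)) = 0 ∧ ∀ j,
    ∀ x ∈ [apM q.w q.m q.p C (W.map (nth 0 σ)) (unitV q.w ((I9).idx j))], ∀ i,
      M i j = valR om 9 2 q.w x ((I9).idx i)) : ((evA h W : GG) : Matrix F9 F9 H11.F4) = M := by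
  have := eq_word (s := 2) amb rfl (by decide) mact hc
  rwa [evA_map] at this
theorem ne : h 2 * h 0 ≠ h 0 * h 2 := fun e => by
  have h1 := word_eq (W := [0, 2]) (M := matR I9 om 2 5 [nat_lit 0x2100001084010040000421, nat_lit 0x420080210800108401, nat_lit 0x8401004210000008401, nat_lit 0x2000020004000802008420, nat_lit 0x2008000080200000000420, nat_lit 0x8021000000802108401, nat_lit 0x2000421004000840108000, nat_lit 0x108421004000000000001, nat_lit 0x2108400080000842000421, nat_lit 0x108001000210800008420, nat_lit 0x2100401000000002100401, nat_lit 0x2008400084000042008021, nat_lit 0x2100421080010000100020, nat_lit 0x2008000004210040000401, nat_lit 0x108400080200040108000, nat_lit 0x2108400004010002108020, nat_lit 0x108421004200842108020, nat_lit 0x2000000004210842000400]) (by decide +kernel)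
  have h2 := word_eq (W := [2, 0]) (M := matR I9 om 2 5 [nat_lit 0x1084200042108001, nat_lit 0x108001080210840100400, nat_lit 0x8400004000000108421, nat_lit 0x2108000004010840008000, nat_lit 0x2000420000010002008400, nat_lit 0x2008021080000000108021, nat_lit 0x8420080200802108001, nat_lit 0x84200800100421, nat_lit 0x2008400000210802000001, nat_lit 0x8420084000000008421, nat_lit 0x2000021000200840008401, nat_lit 0x8421080200042000020, nat_lit 0x1004010840000020, nat_lit 0x21080010002100000, nat_lit 0x2008000084210040108400, nat_lit 0x108001080000042100401, nat_lit 0x100020000000000000421, nat_lit 0x108000000010042000001]) (by decide +kernel)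
  simp only [evA_cons, evA_nil, one_mul] at h1 h2
  exact absurd (h1.symm.trans ((congrArg Units.val e).trans h2)) (by decide +kernel)
theorem b0_mem : b0 ∈ gen h 4 := Units.ext (word_eq genZ) ▸ evA_mem_gen h (ltAll_zero owc.2)
theorem b0_cen : b0 ∈ Subgroup.center GG := center_of_scalar (c := om) (by decide +kernel)
theorem le_gen : threeJ3 H11.F4 om ≤ gen h 4 := by
  refine (Subgroup.closure_le _).2 fun g hg => ?_
  have key : ∀ i, (evA h (nth [] OW i) : GG).val = g.val → g ∈ gen h 4 := fun i e =>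
    Units.ext e ▸ evA_mem_gen h (nth_lt owc.1 i)
  rcases hg with (((⟨Z, e⟩ | ⟨Z, e⟩) | ⟨Z, e⟩) | ⟨Z, hZ, e⟩) | ⟨Z, hZ, e⟩
  · exact key _ ((word_eq (genA Z)).trans e)
  · exact key _ ((word_eq (genE Z)).trans e)
  · exact key _ ((word_eq (genD Z)).trans e)
  · exact key _ ((word_eq (genB Z hZ)).trans e.symm)
  · exact key _ ((word_eq (genC Z hZ)).trans e.symm)
theorem b1_mem : b1 ∈ threeJ3 H11.F4 om := Subgroup.subset_closure (.inr ⟨(0, 1), by decide, by decide +kernel⟩)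
theorem b2_mem : b2 ∈ threeJ3 H11.F4 om := Subgroup.subset_closure (.inl (.inl (.inr ⟨(0, 1), by decide +kernel⟩)))
theorem b0_mem' : b0 ∈ threeJ3 H11.F4 om := by
  obtain ⟨u, h1⟩ : ∃ u : GG, u.val = _ := ⟨_, word_eq (genA (1, 0))⟩
  obtain ⟨v, h2⟩ : ∃ u : GG, u.val = _ := ⟨_, word_eq (genE (0, 0))⟩
  obtain ⟨w, h3⟩ : ∃ u : GG, u.val = _ := ⟨_, word_eq (genE (1, 0))⟩
  have e : b0 * (u * v) = w := Units.ext (by
    rw [Units.val_mul, Units.val_mul, h1, h2, h3]; decide +kernel)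
  rw [eq_mul_inv_of_mul_eq e]
  exact mul_mem (Subgroup.subset_closure (.inl (.inl (.inl (.inr ⟨_, h3.symm⟩))))) (inv_mem (mul_mem
    (Subgroup.subset_closure (.inl (.inl (.inl (.inl ⟨_, h1.symm⟩)))))
    (Subgroup.subset_closure (.inl (.inl (.inl (.inr ⟨_, h2.symm⟩)))))))
theorem gen_eq : gen h 4 = threeJ3 H11.F4 om :=
  le_antisymm (gen_le.2 fun k _ => h_mem (all_cons b0_mem' (all_cons b1_mem (all_cons b2_mem all_nil))) k)
    le_gen
instance nZ : (Subgroup.zpowers b0).Normal := H23.normal_of_le_center (Subgroup.zpowers_le.2 b0_cen)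
theorem exists_cov : ∃ f : gen h 4 →* gen J3.g 4, Function.Surjective f ∧
    f.ker = Subgroup.center _ ∧ f.ker = (Subgroup.zpowers b0).subgroupOf _ ∧
      ∀ W (hW : ∀ k ∈ W, k < 4), (f ⟨evA h W, evA_mem_gen h hW⟩ : Equiv.Perm _) = evA J3.g W := by
  have := J3.simple
  have hz : ∀ a ∈ Subgroup.zpowers b0, a ∈ Subgroup.center GG := fun a ha =>
    Subgroup.zpowers_le.2 b0_cen ha
  obtain ⟨f, h1, h2, h3⟩ := H15.exists_cover J3.bound J3.rels J3.card (QuotientGroup.mk' (Subgroup.zpowers b0))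
    (rels_of _ ((QuotientGroup.eq_one_iff _).2 (Subgroup.mem_zpowers _))) (mem_gen h (by decide : 2 < 4))
    fun e => ne (Subgroup.mem_center_iff.1 (hz _ ((QuotientGroup.eq_one_iff _).1 e)) _).symm
  have h4 : f.ker = (Subgroup.zpowers b0).subgroupOf _ :=
    Subgroup.ext fun a => (h2 a).trans (QuotientGroup.eq_one_iff _)
  obtain ⟨a, ha⟩ := not_forall.1 (noncomm_of_card J3.card (by norm_num))
  obtain ⟨b, hb⟩ := not_forall.1 ha
  exact ⟨f, h1, H15.ker_eq_center f h1 (fun a ha => Subgroup.mem_center_iff.2 fun b => Subtype.ext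
    (Subgroup.mem_center_iff.1 (hz _ (h4.le ha)) _)) hb, h4, h3⟩
noncomputable def cov : gen h 4 →* gen J3.g 4 := exists_cov.choose
noncomputable def equiv0 : (gen h 4 ⧸ Subgroup.center (gen h 4)) ≃* gen J3.g 4 :=
  (QuotientGroup.quotientMulEquivOfEq exists_cov.choose_spec.2.1.symm).trans
    (QuotientGroup.quotientKerEquivOfSurjective cov exists_cov.choose_spec.1)
theorem card_center : Nat.card (Subgroup.center (gen h 4)) = 3 := by
  have : Fact (Nat.Prime 3) := ⟨by norm_num⟩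
  rw [← exists_cov.choose_spec.2.1, exists_cov.choose_spec.2.2.1, Nat.card_congr
    (Subgroup.subgroupOfEquivOfLe (Subgroup.zpowers_le.2 b0_mem)).toEquiv, Nat.card_zpowers]
  exact orderOf_eq_prime (Units.ext (by
    rw [pow_succ, pow_two, Units.val_mul, Units.val_mul]; decide +kernel))
    fun e => absurd (congrArg Units.val e) (by decide +kernel)
theorem det_eq : ∀ a ∈ gen h 4, a.val.det = 1 :=
  have := J3.simple
  det_of_cover exists_cov.choose_spec.1 (perfect_of_card J3.card (by norm_num))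
    exists_cov.choose_spec.2.2.1.le (c := om) (by decide +kernel)
theorem map_three {F K : Type*} [Field F] [Field K] (f : F ≃+* K) (ω : F) :
    (threeJ3 F ω).map (H11.glCongr (Equiv.refl F9) f : GL F9 F →* GL F9 K) = threeJ3 K (f ω) := by
  have h1 : j3Gens K (f ω) = H11.matCongr (Equiv.refl F9) f '' j3Gens F ω := by
    have e : ∀ X : F9 → Matrix F9 F9 F, ∀ X' : F9 → Matrix F9 F9 K,
        (∀ Z, X' Z = H11.matCongr (Equiv.refl F9) f (X Z)) → H11.matCongr (Equiv.refl F9) f ''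
          {M | ∃ Z : F9, Z ≠ 0 ∧ M = X Z} = {M | ∃ Z : F9, Z ≠ 0 ∧ M = X' Z} := fun X X' hX =>
      Set.ext fun M => ⟨fun ⟨_, ⟨Z, h, e⟩, e'⟩ => ⟨Z, h, by rw [hX, ← e, e']⟩,
        fun ⟨Z, h, e⟩ => ⟨_, ⟨Z, h, rfl⟩, by rw [e, hX]⟩⟩
    simp only [j3Gens, Set.image_union, ← Set.range_comp]
    rw [e _ (j3B K), e _ (j3C K)]
    · congr 5 <;> ext Z i j <;>
        simp [H11.matCongr_apply, j3A, j3E, j3D, j3Lam, omegaPow, Matrix.diagonal_apply, apply_ite f]
    all_goals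
      intro Z; ext i j; simp [H11.matCongr_apply, j3B, j3C, apply_ite f]
  rw [threeJ3, MonoidHom.map_closure, threeJ3, h1]
  congr 1
  ext g
  exact ⟨fun ⟨a, h, e⟩ => ⟨a, h, congrArg Units.val e⟩, fun ⟨M, h, e⟩ =>
    ⟨(H11.glCongr (Equiv.refl F9) f).symm g, by
      rw [Set.mem_ofPred_eq, H11.glCongr_symm_coe, ← e, RingEquiv.symm_apply_apply]; exact h,
      MulEquiv.apply_symm_apply _ _⟩⟩
theorem exists_f {F : Type*} [Field F] [Fintype F] (hF : Fintype.card F = 4) {ω : F}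
    (hω : ω ^ 2 + ω + 1 = 0) : ∃ f : H11.F4 ≃+* F, f om = ω := by
  obtain ⟨f⟩ := H11.nonempty_ringEquiv_of_card (F := H11.F4) (K := F) (by rw [hF]; rfl)
  obtain ⟨x, rfl⟩ := f.surjective ω
  have h1 : x ^ 2 + x + 1 = 0 := f.injective (by simpa using hω)
  have h2 : ∀ x : H11.F4, x ^ 2 + x + 1 = 0 → om = x ∨ star om = x := by decide +kernel
  rcases h2 x h1 with rfl | rfl
  · exact ⟨f, rfl⟩
  · exact ⟨(starRingAut : RingAut H11.F4).trans f, rfl⟩
theorem three {F : Type*} [Field F] [Fintype F] (hF : Fintype.card F = 4) {ω : F}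
    (hω : ω ^ 2 + ω + 1 = 0) : Nonempty (gen h 4 ≃* threeJ3 F ω) := by
  obtain ⟨f, rfl⟩ := exists_f hF hω
  exact ⟨(MulEquiv.subgroupCongr gen_eq).trans (((H11.glCongr (Equiv.refl F9) f).subgroupMap _).trans
    (MulEquiv.subgroupCongr (map_three f om)))⟩
/-- the model is isomorphic to `Spor.J3` -/
noncomputable def equiv {F : Type*} [Field F] [Fintype F] (hF : Fintype.card F = 4) {ω : F}
    (hω : ω ^ 2 + ω + 1 = 0) : gen J3.g 4 ≃* Spor.J3 F ω :=
  equiv0.symm.trans (H11.quotCenterCongr (three hF hω).some)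
theorem mem_U {n : Type} [Fintype n] [DecidableEq n] {F : Type} [Field F] [Fintype F] {d q : ℕ}
    (hF : Fintype.card F = q ^ 2) (e : n ≃ Fin d) {a : GL n F}
    (h : (a.val.reindex e e).transpose * (a.val.reindex e e).map (· ^ q) = 1) :
    a ∈ (GU d F q).comap (H11.glCongr e (RingEquiv.refl F) : GL n F →* _) :=
  (H11.mem_GU_iff_matrix hF d _).2 h
theorem su_of {n : Type} [Fintype n] [DecidableEq n] {F : Type} [Field F] {d q : ℕ}
    (e : n ≃ Fin d) {A : Subgroup (GL n F)} (hA : ∀ a ∈ A, a.val.det = 1)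
    (hU : A ≤ (GU d F q).comap (H11.glCongr e (RingEquiv.refl F) : GL n F →* _)) :
    ∃ H : Subgroup (SU d F q), Nonempty (A ≃* H) := by
  let j := Matrix.SpecialLinearGroup.toGL.comp (SU d F q).subtype
  have hj : Function.Injective j :=
    Matrix.SpecialLinearGroup.toGL_injective.comp (Subgroup.subtype_injective _)
  let f := H11.glCongr e (RingEquiv.refl F)
  have h1 : A.map (f : GL n F →* _) ≤ j.range := by
    rintro _ ⟨a, ha, rfl⟩
    exact ⟨⟨⟨(f a).val, (H11.det_matCongr e _ a.val).trans (hA a ha)⟩, hU ha⟩, Units.ext rfl⟩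
  exact ⟨_, ⟨(f.subgroupMap _).trans ((MulEquiv.subgroupCongr (Subgroup.map_comap_eq_self h1).symm).trans
    (Subgroup.equivMapOfInjective _ j hj).symm)⟩⟩
theorem exists_su : ∃ H : Subgroup (SU 9 H11.F4 2), Nonempty (gen h 4 ≃* H) :=
  su_of e9 det_eq (gen_le.2 fun k _ => h_mem (all_cons (mem_U H11.card_F4 e9 (by decide +kernel))
    (all_cons (mem_U H11.card_F4 e9 (by decide +kernel))
    (all_cons (mem_U H11.card_F4 e9 (by decide +kernel)) all_nil))) k)

end H16.LJ3
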