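import Cfsg.Agent.H16.M.J1
import Cfsg.Agent.H16.MatZ
import Cfsg.Prelude.Def_Spor_J1

/-! Generated by tools/h16 (computation kit). -/

set_option maxRecDepth 100000
set_option maxHeartbeats 0

namespace H16.LJ1

def q : MP := ⟨7, 10, 1023, 11⟩
noncomputable def C0 : List ℕ := [nat_lit 0x1000000000000000, nat_lit 1, nat_lit 0x400, nat_lit 0x100000, nat_lit 0x40000000, nat_lit 0x10000000000, nat_lit 0x4000000000000]
noncomputable def C1 : List ℕ := [nat_lit 0x3004080280a02408, nat_lit 0x300c0a0200a00402, nat_lit 0x900c08028080040a, nat_lit 0x1024080200a00c0a, nat_lit 0x1004020200800408, nat_lit 0x30040a0080800c0a, nat_lit 0x100c0a0280200c08]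
noncomputable def C2 : List ℕ := [nat_lit 0x400, nat_lit 0x100000, nat_lit 0x40000000, nat_lit 0x10000000000, nat_lit 0x4000000000000, nat_lit 0x1000000000000000, nat_lit 1]
noncomputable def C3 : List ℕ := [nat_lit 0x8028080280a00808, nat_lit 0x300c0100c0100409, nat_lit 0x202008028080280a, nat_lit 0xa008080200a0200a, nat_lit 0xa028020200802808, nat_lit 0x3004010240300c01, nat_lit 0x100c010040900c03]
noncomputable def C4 : List ℕ := [nat_lit 0x200800c0702009, nat_lit 0x900c000100800c03, nat_lit 0xa024050000301c01, nat_lit 0x801c020200800c00, nat_lit 0x500c0a024000100a, nat_lit 0x10000a0200901006, nat_lit 0x700c040200801804]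
noncomputable def C5 : List ℕ := [nat_lit 0x40180a0000100c09, nat_lit 0x60100400c0700c08, nat_lit 0x8024000200302007, nat_lit 0x8020090200001003, nat_lit 0x40280a0080500008, nat_lit 0x30000301c0900c08, nat_lit 0x7004050200a02400]
noncomputable def C6 : List ℕ := [nat_lit 0x3024000200802004, nat_lit 0x3020090200001008, nat_lit 0x4004010240500008, nat_lit 0x3000080100902008, nat_lit 0x4004050200102400, nat_lit 0x4014010000102009, nat_lit 0x50100400c0400c03]
noncomputable def C7 : List ℕ := [nat_lit 0x50240901c0402408, nat_lit 0x10040000500408, nat_lit 0x20050180401400, nat_lit 0x801c040000801c01, nat_lit 0x7010030140201407, nat_lit 0xa018050140200804, nat_lit 0x7018040200201804]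
noncomputable def C8 : List ℕ := [nat_lit 0x3024010240301809, nat_lit 0x6010020180901401, nat_lit 0x9018080280501c08, nat_lit 0x3028090240101401, nat_lit 0x7014050080900406, nat_lit 0x6008030240800801, nat_lit 0x1014090140902409]
noncomputable def C9 : List ℕ := [nat_lit 0x9004060040800409, nat_lit 0x9008010140701406, nat_lit 0x9020090040502403, nat_lit 0x5024020240a01809, nat_lit 0x900c050240800801, nat_lit 0x5008050280601009, nat_lit 0x10180700c0901803]
noncomputable def C10 : List ℕ := [nat_lit 0x501c060280201809, nat_lit 0x7010080100901406, nat_lit 0x900c040140402402, nat_lit 0x400c00000050100a, nat_lit 0x5000050000402006, nat_lit 0x70040000c0301007, nat_lit 0x801c050100901c05]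
noncomputable def C11 : List ℕ := [nat_lit 0x7020020180701c05, nat_lit 0x7000050040300007, nat_lit 0x4000030100100c07, nat_lit 0x5018090240400406, nat_lit 0x201c040240301402, nat_lit 0x5014070180000008, nat_lit 0x8014020140401c07]
noncomputable def C : List (List ℕ) := [C0, C1, C2, C3, C4, C5, C6, C7, C8, C9, C10, C11]
noncomputable def SL : List (List ℕ) := [[nat_lit 0],
  [nat_lit 1],
  [nat_lit 3, nat_lit 0, nat_lit 0, nat_lit 0, nat_lit 1, nat_lit 1, nat_lit 0, nat_lit 1, nat_lit 2],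
  [nat_lit 4],
  [nat_lit 2, nat_lit 1, nat_lit 2, nat_lit 3],
  [nat_lit 5, nat_lit 6, nat_lit 4, nat_lit 6, nat_lit 4, nat_lit 4, nat_lit 4, nat_lit 4],
  [nat_lit 7, nat_lit 7],
  [nat_lit 8],
  [nat_lit 5, nat_lit 9, nat_lit 5, nat_lit 6],
  [nat_lit 9, nat_lit 9, nat_lit 10, nat_lit 9, nat_lit 9, nat_lit 10, nat_lit 9, nat_lit 9, nat_lit 10, nat_lit 9, nat_lit 0, nat_lit 0]]
noncomputable def σ : List ℕ := [nat_lit 8, nat_lit 9, nat_lit 10, nat_lit 11]
noncomputable def OW : List (List ℕ) := [[nat_lit 0, nat_lit 0, nat_lit 2, nat_lit 1, nat_lit 1, nat_lit 2, nat_lit 1, nat_lit 1, nat_lit 3, nat_lit 2, nat_lit 1, nat_lit 2, nat_lit 0, nat_lit 2, nat_lit 0, nat_lit 0, nat_lit 3, nat_lit 2, nat_lit 3],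
  [nat_lit 0, nat_lit 0, nat_lit 2, nat_lit 1, nat_lit 1, nat_lit 2, nat_lit 1, nat_lit 1, nat_lit 2, nat_lit 1, nat_lit 3, nat_lit 2, nat_lit 0, nat_lit 2, nat_lit 0, nat_lit 3, nat_lit 2, nat_lit 0, nat_lit 3, nat_lit 2]]

theorem slpe_a : allZ2 (slpEnt (nat_lit 7) (nat_lit 10) (nat_lit 1023) (nat_lit 11) C (nat_lit 2) SL) (nat_lit 10) (nat_lit 7) = true := by decide +kernel
theorem rele_a : allZ2 (relEnt (nat_lit 7) (nat_lit 10) (nat_lit 1023) (nat_lit 11) C (nat_lit 12) σ H16.J1.Rl []) (nat_lit 10) (nat_lit 7) = true := by decide +kernel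
theorem orie_a : allZ2 (relEnt (nat_lit 7) (nat_lit 10) (nat_lit 1023) (nat_lit 11) C (nat_lit 12) σ OW ((List.range (nat_lit 2)).map fun i => [i])) (nat_lit 2) (nat_lit 7) = true := by decide +kernel
theorem misc : q.OK ∧ SL.length = 10 ∧ H16.J1.Rl.length = 10 ∧ allL (ltAll (nat_lit 4)) OW = true ∧ colsChk q C0 = 0 ∧ colsChk q C1 = 0 := by decide +kernel

theorem slpe : ∀ k < 10, ∀ i < 7, (slpEnt (nat_lit 7) (nat_lit 10) (nat_lit 1023) (nat_lit 11) C (nat_lit 2) SL) k i = 0 := allZ2_sound slpe_a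
theorem rele : ∀ k < 10, ∀ i < 7, (relEnt (nat_lit 7) (nat_lit 10) (nat_lit 1023) (nat_lit 11) C (nat_lit 12) σ H16.J1.Rl []) k i = 0 := allZ2_sound rele_a
theorem orie : ∀ k < 2, ∀ i < 7, (relEnt (nat_lit 7) (nat_lit 10) (nat_lit 1023) (nat_lit 11) C (nat_lit 12) σ OW ((List.range (nat_lit 2)).map fun i => [i])) k i = 0 := allZ2_sound orie_a

open Cfsg Cfsg.Spor
theorem amb : Amb q (rhoGL (Fin 7) (ZMod 11)) (eZ 7 (ZMod 11)) ⊥ := amb_GL misc.1 (by decide)
theorem mact0 : MAct q (rhoGL (Fin 7) (ZMod 11)) (eZ 7 (ZMod 11)) ⊥ (tup [jankoX, jankoY]) C 2 :=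
  (MAct.nil.succ (cols_Z (d := 7) (R := ZMod 11) rfl misc.2.2.2.2.1 (by decide +kernel))).succ
    (cols_Z (d := 7) (R := ZMod 11) rfl misc.2.2.2.2.2 (by decide +kernel))
theorem mact : MAct q (rhoGL (Fin 7) (ZMod 11)) (eZ 7 (ZMod 11)) ⊥
    (slpG SL (tup [jankoX, jankoY]) 2) C 12 := mact0.slp amb (misc.2.1 ▸ slpe)
/-- the letters of the model `H16.J1` as matrices -/
noncomputable def g : ℕ → Matrix.GeneralLinearGroup (Fin 7) (ZMod 11) := lnk [jankoX, jankoY] SL σ
theorem rels : Rels g J1.Rl := mact.rels amb rigid_Z (by decide) misc.2.2.1 rele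
theorem gen_eq : gen g 4 = Spor.J1 := by
  have := gen_lnk (o := [jankoX, jankoY]) amb rigid_Z (by decide) mact misc.2.2.2.1 orie
  rw [g, this, Spor.J1]
  congr 1; ext; simp
theorem exists_equiv : ∃ e : gen J1.g 4 ≃* gen g 4,
    ∀ k (hk : k < 4), e ⟨J1.g k, mem_gen J1.g hk⟩ = ⟨g k, mem_gen g hk⟩ := by
  have := J1.simple
  by_contra hne
  have h1 : ∀ j < 4, g j = 1 := fun j hj => by
    by_contra h
    exact hne (J1.bound.exists_equiv_of_simple J1.rels J1.card rels hj h)
  have h2 : jankoX ∈ gen g 4 := gen_eq ▸ Subgroup.subset_closure (by simp)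
  have h3 : jankoX = 1 := Subgroup.mem_bot.1 (gen_le.2 (fun k hk => Subgroup.mem_bot.2 (h1 k hk)) h2)
  exact absurd (congrArg (fun a : Matrix.GeneralLinearGroup (Fin 7) (ZMod 11) => a.val 0 0) h3) (by decide)
/-- the permutation model is isomorphic to `Spor.J1` -/
theorem nonempty_equiv : Nonempty (gen J1.g 4 ≃* Spor.J1) :=
  gen_eq ▸ ⟨exists_equiv.choose⟩

end H16.LJ1
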