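import Cfsg.Agent.H16.M.S62
import Cfsg.Agent.H16.MatR2
import Cfsg.Agent.H16.S

/-! Generated by tools/h16 (computation kit). -/

set_option maxRecDepth 100000
set_option maxHeartbeats 0

namespace H16.LS62

open Cfsg
def IS : Ix (Fin 3 ⊕ Fin 3) 6 := ixS (ixF 3) (ixF 3)
def q : MP := ⟨6, 3, 7, 2⟩
def om : (ZMod 2) := 1
abbrev GG : Type := GL (Fin 3 ⊕ Fin 3) (ZMod 2)
def C0 : List ℕ := [nat_lit 1, nat_lit 8, nat_lit 0x40, nat_lit 0x200, nat_lit 0x1000, nat_lit 0x8000]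
def C1 : List ℕ := [nat_lit 0x1209, nat_lit 0x9209, nat_lit 9, nat_lit 0x1241, nat_lit 0x9249, nat_lit 0x208]
def C2 : List ℕ := [nat_lit 0x1241, nat_lit 0x8008, nat_lit 0x8200, nat_lit 0x200, nat_lit 0x9008, nat_lit 0x9240]
def C3 : List ℕ := [nat_lit 0x1249, nat_lit 0x1209, nat_lit 0x1008, nat_lit 0x9209, nat_lit 0x9248, nat_lit 9]
def C4 : List ℕ := [nat_lit 0x8241, nat_lit 0x248, nat_lit 0x9048, nat_lit 0x200, nat_lit 0x1008, nat_lit 0x240]
def C5 : List ℕ := [nat_lit 1, nat_lit 0x8000, nat_lit 0x8009, nat_lit 0x9201, nat_lit 0x1048, nat_lit 0x1009]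
def C6 : List ℕ := [nat_lit 1, nat_lit 0x49, nat_lit 0x9001, nat_lit 0x8241, nat_lit 0x8048, nat_lit 8]
def C7 : List ℕ := [nat_lit 1, nat_lit 0x9001, nat_lit 0x1000, nat_lit 0x8241, nat_lit 0x41, nat_lit 0x1049]
def C8 : List ℕ := [nat_lit 1, nat_lit 0x9040, nat_lit 0x1001, nat_lit 0x1249, nat_lit 0x40, nat_lit 0x49]
def C9 : List ℕ := [nat_lit 1, nat_lit 0x9008, nat_lit 0x9040, nat_lit 0x9240, nat_lit 0x8040, nat_lit 0x8049]
def C10 : List ℕ := [nat_lit 1, nat_lit 0x9001, nat_lit 0x9049, nat_lit 0x240, nat_lit 0x1040, nat_lit 0x8049]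
def C11 : List ℕ := [nat_lit 1, nat_lit 0x40, nat_lit 8, nat_lit 0x201, nat_lit 0x8040, nat_lit 0x1000]
def C12 : List ℕ := [nat_lit 1, nat_lit 0x40, nat_lit 8, nat_lit 0x201, nat_lit 0x8000, nat_lit 0x1008]
def C13 : List ℕ := [nat_lit 1, nat_lit 0x9001, nat_lit 0x9049, nat_lit 0x241, nat_lit 0x1040, nat_lit 0x8049]
def C14 : List ℕ := [nat_lit 1, nat_lit 0x9001, nat_lit 0x9049, nat_lit 0x208, nat_lit 0x1009, nat_lit 0x8000]
def C15 : List ℕ := [nat_lit 1, nat_lit 0x9008, nat_lit 0x9040, nat_lit 0x9208, nat_lit 0x8009, nat_lit 0x8000]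
def C16 : List ℕ := [nat_lit 1, nat_lit 0x9008, nat_lit 0x9040, nat_lit 0x9209, nat_lit 0x1001, nat_lit 0x8000]
def C17 : List ℕ := [nat_lit 1, nat_lit 0x9008, nat_lit 0x9040, nat_lit 0x9209, nat_lit 0x8009, nat_lit 0x8000]
def C18 : List ℕ := [nat_lit 1, nat_lit 0x9008, nat_lit 0x9040, nat_lit 0x200, nat_lit 0x1000, nat_lit 0x8000]
def C19 : List ℕ := [nat_lit 1, nat_lit 0x9008, nat_lit 0x9040, nat_lit 0x200, nat_lit 0x1000, nat_lit 0x8000]
def C20 : List ℕ := [nat_lit 1, nat_lit 0x9001, nat_lit 0x9049, nat_lit 0x9209, nat_lit 0x8009, nat_lit 0x8000]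
def C21 : List ℕ := [nat_lit 1, nat_lit 9, nat_lit 0x41, nat_lit 0x9200, nat_lit 0x1000, nat_lit 0x8000]
def C22 : List ℕ := [nat_lit 1, nat_lit 0x41, nat_lit 9, nat_lit 0x9248, nat_lit 0x8001, nat_lit 0x1001]
def C23 : List ℕ := [nat_lit 1, nat_lit 8, nat_lit 0x8040, nat_lit 0x200, nat_lit 0x1000, nat_lit 0x8000]
def C24 : List ℕ := [nat_lit 0x48, nat_lit 0x41, nat_lit 0x40, nat_lit 0x1048, nat_lit 0x201, nat_lit 0x9201]
def C : List (List ℕ) := [C0, C1, C2] ++ [C3, C4, C5, C6, C7, C8, C9, C10, C11, C12, C13, C14, C15, C16, C17, C18, C19, C20, C21, C22, C23, C24]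
def SL : List (List ℕ) := [[nat_lit 1],
  [nat_lit 2],
  [nat_lit 4, nat_lit 1, nat_lit 4, nat_lit 4],
  [nat_lit 5],
  [nat_lit 2, nat_lit 1, nat_lit 1, nat_lit 1, nat_lit 1],
  [nat_lit 7],
  [nat_lit 5, nat_lit 5, nat_lit 8],
  [nat_lit 9],
  [nat_lit 5, nat_lit 7, nat_lit 7, nat_lit 5, nat_lit 5],
  [nat_lit 11],
  [nat_lit 7, nat_lit 5, nat_lit 5, nat_lit 5],
  [nat_lit 13, nat_lit 10],
  [nat_lit 14],
  [nat_lit 12, nat_lit 12, nat_lit 10, nat_lit 12],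
  [nat_lit 15, nat_lit 15],
  [nat_lit 16, nat_lit 16, nat_lit 15, nat_lit 16, nat_lit 15],
  [nat_lit 18],
  [nat_lit 19, nat_lit 17],
  [nat_lit 20, nat_lit 16, nat_lit 15],
  [nat_lit 19, nat_lit 21, nat_lit 20, nat_lit 19, nat_lit 21, nat_lit 9, nat_lit 12, nat_lit 9],
  [nat_lit 21, nat_lit 20, nat_lit 21, nat_lit 22, nat_lit 20, nat_lit 22, nat_lit 6, nat_lit 8],
  [nat_lit 20, nat_lit 21, nat_lit 22, nat_lit 20, nat_lit 21, nat_lit 22, nat_lit 23, nat_lit 22, nat_lit 20, nat_lit 19, nat_lit 1, nat_lit 20, nat_lit 3, nat_lit 2]]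
def σ : List ℕ := [nat_lit 19, nat_lit 20, nat_lit 21, nat_lit 22, nat_lit 23, nat_lit 24]
def E : List (List ℕ) := [[],
  [],
  [],
  [],
  [],
  [],
  [],
  [],
  [],
  [],
  [],
  [],
  [],
  [],
  [],
  [],
  [],
  [],
  [],
  [],
  [],
  [],
  [],
  [],
  []]
def b0 : GG := glR (matR IS om 1 3 C0) (matR IS om 1 3 [nat_lit 1, nat_lit 8, nat_lit 0x40, nat_lit 0x200, nat_lit 0x1000, nat_lit 0x8000])
  (by decide +kernel)
theorem col0 : Cols q (rhoGL _ _) (eR IS om) ⊥ b0 C0 := cols_R (s := 1) IS om rfl (by decide +kernel)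
def b1 : GG := glR (matR IS om 1 3 C1) (matR IS om 1 3 [nat_lit 0x1249, nat_lit 0x1209, nat_lit 0x1008, nat_lit 0x9209, nat_lit 0x9248, nat_lit 9])
  (by decide +kernel)
theorem col1 : Cols q (rhoGL _ _) (eR IS om) ⊥ b1 C1 := cols_R (s := 1) IS om rfl (by decide +kernel)
def b2 : GG := glR (matR IS om 1 3 C2) (matR IS om 1 3 [nat_lit 0x8241, nat_lit 0x248, nat_lit 0x9048, nat_lit 0x200, nat_lit 0x1008, nat_lit 0x240])
  (by decide +kernel)
theorem col2 : Cols q (rhoGL _ _) (eR IS om) ⊥ b2 C2 := cols_R (s := 1) IS om rfl (by decide +kernel)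

theorem slpe_a : allZ2 (slpEnt (nat_lit 6) (nat_lit 3) (nat_lit 7) (nat_lit 2) C (nat_lit 3) SL) (nat_lit 22) (nat_lit 6) = true := by decide +kernel
theorem rele_a : allZ2 (relEnt (nat_lit 6) (nat_lit 3) (nat_lit 7) (nat_lit 2) C (nat_lit 25) σ S62.Rl E) (nat_lit 25) (nat_lit 6) = true := by decide +kernel
theorem misc : q.OK ∧ SL.length = 22 ∧ S62.Rl.length = 25 ∧ allL (ltAll 1) E = true := by decide +kernel

theorem slpe : ∀ k < 22, ∀ i < 6, (slpEnt (nat_lit 6) (nat_lit 3) (nat_lit 7) (nat_lit 2) C (nat_lit 3) SL) k i = 0 := allZ2_sound slpe_a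
theorem rele : ∀ k < 25, ∀ i < 6, (relEnt (nat_lit 6) (nat_lit 3) (nat_lit 7) (nat_lit 2) C (nat_lit 25) σ S62.Rl E) k i = 0 := allZ2_sound rele_a
def o : List GG := [b0, b1, b2]
theorem amb : Amb q (rhoGL _ _) (eR IS om) ⊥ := amb_GL misc.1 (by decide +kernel)
noncomputable def hs : ℕ → GG := slpG SL (tup o) o.length
theorem mact : MAct q (rhoGL _ _) (eR IS om) ⊥ hs C 25 :=
  (mact_tup (.cons col0 (.cons col1 (.cons col2 .nil)))).slp amb (misc.2.1 ▸ slpe)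
/-- the letters of the model as matrices -/
noncomputable def h : ℕ → GG := fun k => hs (nth 0 σ k)
theorem h_mem {A : Subgroup GG} (hA : ∀ a ∈ o, a ∈ A) (k : ℕ) : h k ∈ A := lnk_mem hA SL σ k
theorem rels_of {Q : Type*} [Group Q] (π : GG →* Q) (hz : π b0 = 1) : Rels (fun k => π (h k)) S62.Rl :=
  mact.rels_z amb (rigid_R _ _) (by decide) misc.2.2 rele π ((congrArg π (slpG_zero SL b0 _)).trans hz)
theorem word_eq {W : List ℕ} {M : Matrix (Fin 3 ⊕ Fin 3) (Fin 3 ⊕ Fin 3) (ZMod 2)} (hc : ltAll 25 (W.map (nth 0 σ)) = 0 ∧ ∀ j,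
    ∀ x ∈ [apM q.w q.m q.p C (W.map (nth 0 σ)) (unitV q.w ((IS).idx j))], ∀ i,
      M i j = valR om 6 1 q.w x ((IS).idx i)) : ((evA h W : GG) : Matrix (Fin 3 ⊕ Fin 3) (Fin 3 ⊕ Fin 3) (ZMod 2)) = M := by
  have := eq_word (s := 1) amb rfl (by decide) mact hc
  rwa [evA_map] at this
theorem ne : h 1 * h 0 ≠ h 0 * h 1 := fun e => by
  have h1 := word_eq (W := [0, 1]) (M := matR IS om 1 3 [nat_lit 1, nat_lit 0x9008, nat_lit 0x9040, nat_lit 0x9209, nat_lit 0x8009, nat_lit 0x8000]) (by decide +kernel)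
  have h2 := word_eq (W := [1, 0]) (M := matR IS om 1 3 [nat_lit 1, nat_lit 0x9001, nat_lit 0x9049, nat_lit 0x209, nat_lit 0x1009, nat_lit 0x8000]) (by decide +kernel)
  simp only [evA_cons, evA_nil, one_mul] at h1 h2
  exact absurd (h1.symm.trans ((congrArg Units.val e).trans h2)) (by decide +kernel)
theorem b0_cen : b0 ∈ Subgroup.center GG := center_of_scalar (c := 1) (by decide +kernel)
theorem b0_eq : b0 = 1 := Units.ext (by decide +kernel)
theorem rels : Rels h S62.Rl := rels_id (rels_of _) b0_eq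
theorem m2 : b2 ∈ (spGL 3 (ZMod 2)).range := mem_spGL (by decide +kernel)
theorem m1 : b1 ∈ (spGL 3 (ZMod 2)).range := mem_spGL (by decide +kernel)
theorem m0 : b0 ∈ (spGL 3 (ZMod 2)).range := mem_spGL (by decide +kernel)
theorem mem : ∀ k, h k ∈ (spGL 3 (ZMod 2)).range := h_mem (all_cons m0 (all_cons m1 (all_cons m2 all_nil)))
theorem cardX : Nat.card (PSp 3 (ZMod 2)) = 1451520 := by
  have := H11.card_psp (F := (ZMod 2)) (m := 3) (by norm_num)
  rw [show Fintype.card (ZMod 2) = 2 from rfl] at this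
  simpa [Finset.prod_range_succ] using this
theorem equiv : Nonempty (gen S62.g 6 ≃* PSp 3 (ZMod 2)) :=
  have := S62.simple
  link_psp S62.bound S62.rels S62.card (by norm_num) (by decide) (rels_of _ ((QuotientGroup.eq_one_iff _).2 b0_cen)) ne mem cardX

end H16.LS62
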