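import Cfsg.Agent.H16.M.L34
import Cfsg.Agent.H16.MatR2
import Cfsg.Agent.H16.S

/-! Generated by tools/h16 (computation kit). -/

set_option maxRecDepth 100000
set_option maxHeartbeats 0

namespace H16.LL34

open Cfsg
def q : MP := ⟨6, 3, 7, 2⟩
def om : H11.F4 := ⟨0, 1⟩
abbrev GG : Type := GL (Fin 3) H11.F4
def C0 : List ℕ := [nat_lit 0x200, nat_lit 0x1000, nat_lit 0x8000, nat_lit 0x201, nat_lit 0x1008, nat_lit 0x8040]
def C1 : List ℕ := [nat_lit 0x9208, nat_lit 0x8049, nat_lit 0x9248, nat_lit 0x8249, nat_lit 0x1240, nat_lit 0x249]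
def C2 : List ℕ := [nat_lit 0x1201, nat_lit 0x1200, nat_lit 0x8040, nat_lit 0x1009, nat_lit 0x1209, nat_lit 0x40]
def C3 : List ℕ := [nat_lit 0x1009, nat_lit 0x9240, nat_lit 0x41, nat_lit 0x208, nat_lit 0x1249, nat_lit 0x8200]
def C4 : List ℕ := [nat_lit 9, nat_lit 0x1001, nat_lit 0x8000, nat_lit 0x1200, nat_lit 0x1208, nat_lit 0x8040]
def C5 : List ℕ := [nat_lit 0x201, nat_lit 0x9009, nat_lit 0x9001, nat_lit 1, nat_lit 0x8248, nat_lit 0x9248]
def C6 : List ℕ := [nat_lit 0x200, nat_lit 0x48, nat_lit 0x8009, nat_lit 0x201, nat_lit 0x9000, nat_lit 0x9240]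
def C7 : List ℕ := [nat_lit 1, nat_lit 0x9248, nat_lit 0x1000, nat_lit 0x200, nat_lit 0x249, nat_lit 0x1008]
def C8 : List ℕ := [nat_lit 0x201, nat_lit 0x208, nat_lit 0x8000, nat_lit 1, nat_lit 0x1201, nat_lit 0x8040]
def C9 : List ℕ := [nat_lit 0x200, nat_lit 0x209, nat_lit 0x8040, nat_lit 0x201, nat_lit 0x1001, nat_lit 0x40]
def C10 : List ℕ := [nat_lit 0x201, nat_lit 0x1008, nat_lit 0x8240, nat_lit 1, nat_lit 8, nat_lit 0x241]
def C11 : List ℕ := [nat_lit 0x200, nat_lit 0x209, nat_lit 0x9040, nat_lit 0x201, nat_lit 0x1001, nat_lit 0x1048]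
def C12 : List ℕ := [nat_lit 0x201, nat_lit 0x1001, nat_lit 0x240, nat_lit 1, nat_lit 0x1208, nat_lit 0x8201]
def C13 : List ℕ := [nat_lit 0x200, nat_lit 0x1009, nat_lit 0x241, nat_lit 0x201, nat_lit 0x208, nat_lit 0x8001]
def C14 : List ℕ := [nat_lit 0x201, nat_lit 0x1001, nat_lit 0x240, nat_lit 1, nat_lit 0x1208, nat_lit 0x8201]
def C15 : List ℕ := [nat_lit 0x200, nat_lit 0x1009, nat_lit 0x241, nat_lit 0x201, nat_lit 0x208, nat_lit 0x8001]
def C16 : List ℕ := [nat_lit 0x201, nat_lit 0x1008, nat_lit 0x9241, nat_lit 1, nat_lit 8, nat_lit 0x1049]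
def C17 : List ℕ := [nat_lit 0x200, nat_lit 0x1000, nat_lit 0x8201, nat_lit 0x201, nat_lit 0x1008, nat_lit 0x8041]
def C18 : List ℕ := [nat_lit 0x201, nat_lit 0x1248, nat_lit 0x8040, nat_lit 1, nat_lit 0x8209, nat_lit 0x40]
def C19 : List ℕ := [nat_lit 0x1200, nat_lit 0x1001, nat_lit 0x1241, nat_lit 0x1209, nat_lit 0x1208, nat_lit 0x9009]
def C : List (List ℕ) := [C0, C1, C2] ++ [C3, C4, C5, C6, C7, C8, C9, C10, C11, C12, C13, C14, C15, C16, C17, C18, C19]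
def SL : List (List ℕ) := [[nat_lit 1],
  [nat_lit 2],
  [nat_lit 3, nat_lit 4],
  [nat_lit 5],
  [nat_lit 3, nat_lit 3, nat_lit 3, nat_lit 2, nat_lit 3],
  [nat_lit 7, nat_lit 7, nat_lit 6],
  [nat_lit 8],
  [nat_lit 7, nat_lit 5, nat_lit 7, nat_lit 5],
  [nat_lit 5, nat_lit 5, nat_lit 7, nat_lit 5, nat_lit 5],
  [nat_lit 8, nat_lit 10],
  [nat_lit 12],
  [nat_lit 13],
  [nat_lit 14],
  [nat_lit 15, nat_lit 11, nat_lit 10],
  [nat_lit 15, nat_lit 9],
  [nat_lit 15, nat_lit 16, nat_lit 14, nat_lit 6, nat_lit 15],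
  [nat_lit 17, nat_lit 14, nat_lit 16, nat_lit 18, nat_lit 17, nat_lit 18, nat_lit 4]]
def σ : List ℕ := [nat_lit 14, nat_lit 15, nat_lit 16, nat_lit 17, nat_lit 18, nat_lit 19]
def E : List (List ℕ) := [[],
  [],
  [nat_lit 0],
  [nat_lit 0, nat_lit 0],
  [nat_lit 0],
  [],
  [],
  [],
  [],
  [],
  [],
  [],
  [],
  [],
  [],
  [nat_lit 0],
  []]
def b0 : GG := glR (matR (ixF 3) om 2 3 C0) (matR (ixF 3) om 2 3 [nat_lit 0x201, nat_lit 0x1008, nat_lit 0x8040])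
  (by decide +kernel)
theorem col0 : Cols q (rhoGL _ _) (eR (ixF 3) om) ⊥ b0 C0 := cols_R (s := 2) (ixF 3) om rfl (by decide +kernel)
def b1 : GG := glR (matR (ixF 3) om 2 3 C1) (matR (ixF 3) om 2 3 [nat_lit 0x1009, nat_lit 0x9240, nat_lit 0x41])
  (by decide +kernel)
theorem col1 : Cols q (rhoGL _ _) (eR (ixF 3) om) ⊥ b1 C1 := cols_R (s := 2) (ixF 3) om rfl (by decide +kernel)
def b2 : GG := glR (matR (ixF 3) om 2 3 C2) (matR (ixF 3) om 2 3 [nat_lit 9, nat_lit 0x1001, nat_lit 0x8000])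
  (by decide +kernel)
theorem col2 : Cols q (rhoGL _ _) (eR (ixF 3) om) ⊥ b2 C2 := cols_R (s := 2) (ixF 3) om rfl (by decide +kernel)

theorem slpe_a : allZ2 (slpEnt (nat_lit 6) (nat_lit 3) (nat_lit 7) (nat_lit 2) C (nat_lit 3) SL) (nat_lit 17) (nat_lit 6) = true := by decide +kernel
theorem rele_a : allZ2 (relEnt (nat_lit 6) (nat_lit 3) (nat_lit 7) (nat_lit 2) C (nat_lit 20) σ L34.Rl E) (nat_lit 17) (nat_lit 3) = true := by decide +kernel
theorem misc : q.OK ∧ SL.length = 17 ∧ L34.Rl.length = 17 ∧ allL (ltAll 1) E = true := by decide +kernel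

theorem slpe : ∀ k < 17, ∀ i < 6, (slpEnt (nat_lit 6) (nat_lit 3) (nat_lit 7) (nat_lit 2) C (nat_lit 3) SL) k i = 0 := allZ2_sound slpe_a
theorem rele : ∀ k < 17, ∀ i < 3, (relEnt (nat_lit 6) (nat_lit 3) (nat_lit 7) (nat_lit 2) C (nat_lit 20) σ L34.Rl E) k i = 0 := allZ2_sound rele_a
def o : List GG := [b0, b1, b2]
theorem amb : Amb q (rhoGL _ _) (eR (ixF 3) om) ⊥ := amb_GL misc.1 (by decide +kernel)
noncomputable def hs : ℕ → GG := slpG SL (tup o) o.length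
theorem mact : MAct q (rhoGL _ _) (eR (ixF 3) om) ⊥ hs C 20 :=
  (mact_tup (.cons col0 (.cons col1 (.cons col2 .nil)))).slp amb (misc.2.1 ▸ slpe)
/-- the letters of the model as matrices -/
noncomputable def h : ℕ → GG := fun k => hs (nth 0 σ k)
theorem h_mem {A : Subgroup GG} (hA : ∀ a ∈ o, a ∈ A) (k : ℕ) : h k ∈ A := lnk_mem hA SL σ k
theorem rels_of {Q : Type*} [Group Q] (π : GG →* Q) (hz : π b0 = 1) : Rels (fun k => π (h k)) L34.Rl :=
  mact.rels_z amb (rigid_R _ _) (by decide) misc.2.2 rele π ((congrArg π (slpG_zero SL b0 _)).trans hz)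
theorem word_eq {W : List ℕ} {M : Matrix (Fin 3) (Fin 3) H11.F4} (hc : ltAll 20 (W.map (nth 0 σ)) = 0 ∧ ∀ j,
    ∀ x ∈ [apM q.w q.m q.p C (W.map (nth 0 σ)) (unitV q.w (((ixF 3)).idx j))], ∀ i,
      M i j = valR om 3 2 q.w x (((ixF 3)).idx i)) : ((evA h W : GG) : Matrix (Fin 3) (Fin 3) H11.F4) = M := by
  have := eq_word (s := 2) amb rfl (by decide) mact hc
  rwa [evA_map] at this
theorem ne : h 2 * h 0 ≠ h 0 * h 2 := fun e => by
  have h1 := word_eq (W := [0, 2]) (M := matR (ixF 3) om 2 3 [nat_lit 0x200, nat_lit 0x209, nat_lit 0x9240, nat_lit 0x201, nat_lit 0x1001, nat_lit 0x1249]) (by decide +kernel)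
  have h2 := word_eq (W := [2, 0]) (M := matR (ixF 3) om 2 3 [nat_lit 0x200, nat_lit 0x209, nat_lit 0x9049, nat_lit 0x201, nat_lit 0x1001, nat_lit 0x248]) (by decide +kernel)
  simp only [evA_cons, evA_nil, one_mul] at h1 h2
  exact absurd (h1.symm.trans ((congrArg Units.val e).trans h2)) (by decide +kernel)
theorem b0_cen : b0 ∈ Subgroup.center GG := center_of_scalar (c := ⟨0, 1⟩) (by decide +kernel)
theorem cardX : Nat.card (Matrix.ProjectiveSpecialLinearGroup (Fin 3) H11.F4) = 20160 := by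
  have h1 := H11.card_units_mul_card_sl (ι := Fin 3) (F := H11.F4)
  have h2 := H11.card_psl (ι := Fin 3) (F := H11.F4)
  rw [Matrix.card_GL_field, Fin.prod_univ_three, ← h2, show Fintype.card H11.F4 = 4 from rfl,
    Fintype.card_fin] at h1
  generalize Nat.card _ = c at h1 ⊢
  norm_num at h1
  omega
theorem equiv : Nonempty (gen L34.g 6 ≃* Matrix.ProjectiveSpecialLinearGroup (Fin 3) H11.F4) :=
  have := L34.simple
  link_psl L34.bound L34.rels L34.card (by norm_num) (by decide) (rels_of _ ((QuotientGroup.eq_one_iff _).2 b0_cen)) ne cardX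

end H16.LL34
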