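import Cfsg.Agent.H16.M.U62
import Cfsg.Agent.H16.MatR2
import Cfsg.Agent.H16.S

/-! Generated by tools/h16 (computation kit). -/

set_option maxRecDepth 100000
set_option maxHeartbeats 0

namespace H16.LU62

open Cfsg
def q : MP := ⟨12, 4, 15, 2⟩
def om : H11.F4 := ⟨0, 1⟩
abbrev GG : Type := GL (Fin 6) H11.F4
def C0 : List ℕ := [nat_lit 0x1000000, nat_lit 0x10000000, nat_lit 0x100000000, nat_lit 0x1000000000, nat_lit 0x10000000000, nat_lit 0x100000000000, nat_lit 0x1000001, nat_lit 0x10000010, nat_lit 0x100000100, nat_lit 0x1000001000, nat_lit 0x10000010000, nat_lit 0x100000100000]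
def C1 : List ℕ := [nat_lit 0x100011010111, nat_lit 0x110110001010, nat_lit 0x110001100, nat_lit 0x111010011100, nat_lit 0x111011100011, nat_lit 0x101100011001, nat_lit 0x110100100011, nat_lit 0x111100110110, nat_lit 0x1010000110, nat_lit 0x100110111010, nat_lit 0x11000111011, nat_lit 0x110101101100]
def C2 : List ℕ := [nat_lit 0x1101110, nat_lit 0x100101111100, nat_lit 0x101111101010, nat_lit 0x100101110110, nat_lit 0x11010011010, nat_lit 0x101111001110, nat_lit 0x101111000001, nat_lit 0x11001100101, nat_lit 0x101101111, nat_lit 0x10011100101, nat_lit 0x11010, nat_lit 0x100001101111]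
def C3 : List ℕ := [nat_lit 0x10001100000, nat_lit 0x11111001100, nat_lit 0x100110101011, nat_lit 0x111000010110, nat_lit 0x11010110011, nat_lit 0x111011101011, nat_lit 0x110001010001, nat_lit 0x10011011111, nat_lit 0x1101100110, nat_lit 0x101110111000, nat_lit 0x101001011010, nat_lit 0x10000111011]
def C4 : List ℕ := [nat_lit 0x101111101111, nat_lit 0x110100001001, nat_lit 0x101110000101, nat_lit 0x110100000011, nat_lit 0x10000001010, nat_lit 0x101110100001, nat_lit 0x101111, nat_lit 0x111101110100, nat_lit 0x101011101110, nat_lit 0x110111110100, nat_lit 0x11010010000, nat_lit 0x1111101110]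
def C5 : List ℕ := [nat_lit 0x1000001, nat_lit 0x100010010, nat_lit 0x1110111110, nat_lit 0x111100110110, nat_lit 0x100010100110, nat_lit 0x1100001010, nat_lit 1, nat_lit 0x10110000100, nat_lit 0x110000001110, nat_lit 0x1010111100, nat_lit 0x100100010, nat_lit 0x110001100]
def C6 : List ℕ := [nat_lit 0x1000000, nat_lit 0x10100101010, nat_lit 0x101110110010, nat_lit 0x101100001000, nat_lit 0x1000000110, nat_lit 0x11000000100, nat_lit 0x1000001, nat_lit 0x111110010100, nat_lit 0x11100101110, nat_lit 0x100100101100, nat_lit 0x1110001000, nat_lit 0x11100011000]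
def C7 : List ℕ := [nat_lit 0x1000000, nat_lit 0x100000000110, nat_lit 0x101010111110, nat_lit 0x10010110010, nat_lit 0x100010101000, nat_lit 0x111100110110, nat_lit 0x1000001, nat_lit 0x100110100000, nat_lit 0x10100101010, nat_lit 0x100000010010, nat_lit 0x1010100010, nat_lit 0x1010111100]
def C8 : List ℕ := [nat_lit 0x1000001, nat_lit 0x11100110010, nat_lit 0x100000000110, nat_lit 0x100100110000, nat_lit 0x101000000100, nat_lit 0x110110001010, nat_lit 1, nat_lit 0x101110011100, nat_lit 0x100110100000, nat_lit 0x10100100100, nat_lit 0x101100101000, nat_lit 0x111100110110]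
def C9 : List ℕ := [nat_lit 1, nat_lit 0x100110111010, nat_lit 0x110100111010, nat_lit 0x1000110110, nat_lit 0x10110111010, nat_lit 0x1100111110, nat_lit 0x1000000, nat_lit 0x11100100110, nat_lit 0x1110110100, nat_lit 0x111110001000, nat_lit 0x101100010110, nat_lit 0x110010001100]
def C10 : List ℕ := [nat_lit 1, nat_lit 0x10010101100, nat_lit 0x110110011110, nat_lit 0x101000011110, nat_lit 0x10100101010, nat_lit 0x110111000, nat_lit 0x1000000, nat_lit 0x111110010010, nat_lit 0x101000110110, nat_lit 0x110110101000, nat_lit 0x111110010100, nat_lit 0x111110000110]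
def C11 : List ℕ := [nat_lit 0x1000001, nat_lit 0x10100010110, nat_lit 0x111110011000, nat_lit 0x10010010110, nat_lit 0x101110010110, nat_lit 0x110000001110, nat_lit 1, nat_lit 0x10010100, nat_lit 0x100110111110, nat_lit 0x100010010, nat_lit 0x111000101110, nat_lit 0x111110110000]
def C12 : List ℕ := [nat_lit 0x1000000, nat_lit 0x11100100110, nat_lit 0x10110101100, nat_lit 0x10100110000, nat_lit 0x101110110000, nat_lit 0x110100110100, nat_lit 0x1000001, nat_lit 0x111010011100, nat_lit 0x111010010110, nat_lit 0x100100010100, nat_lit 0x11110101110, nat_lit 0x110100]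
def C13 : List ℕ := [nat_lit 0x1000001, nat_lit 0x101100001000, nat_lit 0x100110100110, nat_lit 0x10110111010, nat_lit 0x11110101100, nat_lit 0x110100, nat_lit 1, nat_lit 0x100100101100, nat_lit 0x100110, nat_lit 0x101100010110, nat_lit 0x110010011110, nat_lit 0x110100000000]
def C14 : List ℕ := [nat_lit 0x1000000, nat_lit 0x11100010000, nat_lit 0x11110101010, nat_lit 0x10010001000, nat_lit 0x11000110000, nat_lit 0x110111010, nat_lit 0x1000001, nat_lit 0x1100011100, nat_lit 0x110100011110, nat_lit 0x11010010010, nat_lit 0x101000011000, nat_lit 0x111100000110]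
def C15 : List ℕ := [nat_lit 1, nat_lit 0x10, nat_lit 0x1100101100, nat_lit 0x11100001100, nat_lit 0x10100100100, nat_lit 0x110000011000, nat_lit 0x1000000, nat_lit 0x10000000, nat_lit 0x100000001100, nat_lit 0x10000011100, nat_lit 0x110000010100, nat_lit 0x101000110000]
def C16 : List ℕ := [nat_lit 1, nat_lit 0x10, nat_lit 0x11100000000, nat_lit 0x1100100000, nat_lit 0x111000011000, nat_lit 0x100000110100, nat_lit 0x1000000, nat_lit 0x10000000, nat_lit 0x11100011100, nat_lit 0x101100001100, nat_lit 0x100000111000, nat_lit 0x10100100000]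
def C17 : List ℕ := [nat_lit 0x1000000, nat_lit 0x101100101000, nat_lit 0x111000010000, nat_lit 0x110010111110, nat_lit 0x101000101010, nat_lit 0x11010111110, nat_lit 0x1000001, nat_lit 0x100101100, nat_lit 0x101000111000, nat_lit 0x1100110010, nat_lit 0x10101000, nat_lit 0x100100011010]
def C18 : List ℕ := [nat_lit 0x1000001, nat_lit 0x101000010000, nat_lit 0x10101010, nat_lit 0x110110001100, nat_lit 0x101100000000, nat_lit 0x11110100100, nat_lit 1, nat_lit 0x111000101000, nat_lit 0x101000000010, nat_lit 0x111010110110, nat_lit 0x101100101100, nat_lit 0x111010011110]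
def C19 : List ℕ := [nat_lit 1, nat_lit 0x10, nat_lit 0x10000101000, nat_lit 0x10000100100, nat_lit 0x101100101100, nat_lit 0x10000001100, nat_lit 0x1000000, nat_lit 0x10000000, nat_lit 0x111000010000, nat_lit 0x110100010000, nat_lit 0x101100, nat_lit 0x11100010000]
def C20 : List ℕ := [nat_lit 0x1000000, nat_lit 0x101100101000, nat_lit 0x101010101000, nat_lit 0x100000000110, nat_lit 0x10000000000, nat_lit 0x1000000110, nat_lit 0x1000001, nat_lit 0x100101100, nat_lit 0x10101010, nat_lit 0x100110100000, nat_lit 0x10000010000, nat_lit 0x1110001000]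
def C21 : List ℕ := [nat_lit 1, nat_lit 0x10, nat_lit 0x10000101000, nat_lit 0x10000100100, nat_lit 0x101100101100, nat_lit 0x10000001100, nat_lit 0x1000000, nat_lit 0x10000000, nat_lit 0x111000010000, nat_lit 0x110100010000, nat_lit 0x101100, nat_lit 0x11100010000]
def C22 : List ℕ := [nat_lit 0x1000001, nat_lit 0x110111000, nat_lit 0x101100100000, nat_lit 0x10001110, nat_lit 0x110100111110, nat_lit 0x1100011100, nat_lit 1, nat_lit 0x111110000110, nat_lit 0x1100101100, nat_lit 0x1100000010, nat_lit 0x1010110100, nat_lit 0x10000001100]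
def C23 : List ℕ := [nat_lit 0x1000000, nat_lit 0x1010010010, nat_lit 0x110110001110, nat_lit 0x100100011110, nat_lit 0x10000100010, nat_lit 0x10100000010, nat_lit 0x1000001, nat_lit 0x11000001010, nat_lit 0x111000110110, nat_lit 0x111010100100, nat_lit 0x110010010000, nat_lit 0x10110010100]
def C24 : List ℕ := [nat_lit 1, nat_lit 0x110010001100, nat_lit 0x10010111100, nat_lit 0x1010001110, nat_lit 0x11110100010, nat_lit 0x110001110, nat_lit 0x1000000, nat_lit 0x111110110010, nat_lit 0x101110010010, nat_lit 0x100001010, nat_lit 0x111100011110, nat_lit 0x1000000110]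
def C25 : List ℕ := [nat_lit 1, nat_lit 0x111110000110, nat_lit 0x110000011110, nat_lit 0x11000110110, nat_lit 0x10110010010, nat_lit 0x10010110, nat_lit 0x1000000, nat_lit 0x111000111110, nat_lit 0x101110110000, nat_lit 0x101110011000, nat_lit 0x100010110, nat_lit 0x10100000010]
def C26 : List ℕ := [nat_lit 0x1000000, nat_lit 0x100110111000, nat_lit 0x111110101110, nat_lit 0x101100110010, nat_lit 0x110100011110, nat_lit 0x111110110000, nat_lit 0x1000001, nat_lit 0x11110100110, nat_lit 0x10000111110, nat_lit 0x11110101100, nat_lit 0x101010110100, nat_lit 0x1110111110]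
def C27 : List ℕ := [nat_lit 0x1000001, nat_lit 0x100110111010, nat_lit 0x111110101010, nat_lit 0x101100111010, nat_lit 0x110100001110, nat_lit 0x111110010000, nat_lit 1, nat_lit 0x11100100110, nat_lit 0x10100111110, nat_lit 0x10110101100, nat_lit 0x111010110100, nat_lit 0x101110111110]
def C28 : List ℕ := [nat_lit 0x1000000, nat_lit 0x10100001000, nat_lit 0x10010001000, nat_lit 0x10110010110, nat_lit 0x110001000, nat_lit 0x100000000000, nat_lit 0x1000001, nat_lit 0x11100010100, nat_lit 0x11010010010, nat_lit 0x10110, nat_lit 0x1110000110, nat_lit 0x100000100000]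
def C29 : List ℕ := [nat_lit 0x10100011100, nat_lit 0x10, nat_lit 0x1001010000, nat_lit 0x10100010101, nat_lit 0x1001000100, nat_lit 0x100000, nat_lit 0x1000010100, nat_lit 0x10000000, nat_lit 0x11001001001, nat_lit 0x1010100, nat_lit 0x1101001001, nat_lit 0x100000000000]
def C : List (List ℕ) := [C0, C1, C2] ++ [C3, C4, C5, C6, C7, C8, C9, C10, C11, C12, C13, C14, C15, C16, C17, C18, C19, C20, C21, C22, C23, C24, C25, C26, C27, C28, C29]
def SL : List (List ℕ) := [[nat_lit 1],
  [nat_lit 2],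
  [nat_lit 3, nat_lit 2, nat_lit 3, nat_lit 4, nat_lit 1, nat_lit 4, nat_lit 1, nat_lit 2, nat_lit 3, nat_lit 3],
  [nat_lit 5],
  [nat_lit 2, nat_lit 1, nat_lit 1, nat_lit 1, nat_lit 2, nat_lit 3, nat_lit 2],
  [nat_lit 7],
  [nat_lit 8, nat_lit 6, nat_lit 6, nat_lit 7, nat_lit 5, nat_lit 8],
  [nat_lit 9],
  [nat_lit 5, nat_lit 5, nat_lit 8, nat_lit 5, nat_lit 8],
  [nat_lit 11],
  [nat_lit 12, nat_lit 9, nat_lit 11, nat_lit 10, nat_lit 12, nat_lit 9, nat_lit 9, nat_lit 9],
  [nat_lit 13],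
  [nat_lit 11, nat_lit 11, nat_lit 9, nat_lit 12, nat_lit 9, nat_lit 12, nat_lit 10, nat_lit 10],
  [nat_lit 15],
  [nat_lit 16, nat_lit 13, nat_lit 13, nat_lit 15, nat_lit 13, nat_lit 13],
  [nat_lit 17],
  [nat_lit 15, nat_lit 15],
  [nat_lit 18, nat_lit 19],
  [nat_lit 19],
  [nat_lit 20, nat_lit 13, nat_lit 16, nat_lit 14],
  [nat_lit 22],
  [nat_lit 21, nat_lit 20, nat_lit 15, nat_lit 13],
  [nat_lit 24],
  [nat_lit 22, nat_lit 22, nat_lit 10, nat_lit 11, nat_lit 11],
  [nat_lit 26],
  [nat_lit 21, nat_lit 25, nat_lit 27, nat_lit 20, nat_lit 22, nat_lit 26, nat_lit 25, nat_lit 27, nat_lit 8, nat_lit 6],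
  [nat_lit 26, nat_lit 21, nat_lit 20, nat_lit 27, nat_lit 28, nat_lit 24, nat_lit 23, nat_lit 28, nat_lit 26, nat_lit 2, nat_lit 1, nat_lit 1]]
def σ : List ℕ := [nat_lit 20, nat_lit 21, nat_lit 22, nat_lit 23, nat_lit 24, nat_lit 25, nat_lit 26, nat_lit 27, nat_lit 28, nat_lit 29]
def E : List (List ℕ) := [[nat_lit 0, nat_lit 0],
  [],
  [],
  [],
  [],
  [],
  [],
  [],
  [nat_lit 0, nat_lit 0],
  [],
  [],
  [nat_lit 0],
  [nat_lit 0],
  [],
  [nat_lit 0],
  [],
  [],
  [nat_lit 0, nat_lit 0],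
  [nat_lit 0],
  [nat_lit 0, nat_lit 0],
  [nat_lit 0, nat_lit 0],
  [nat_lit 0],
  [],
  [],
  [nat_lit 0],
  [],
  [],
  [],
  [nat_lit 0],
  [nat_lit 0, nat_lit 0],
  []]
def b0 : GG := glR (matR (ixF 6) om 2 4 C0) (matR (ixF 6) om 2 4 [nat_lit 0x1000001, nat_lit 0x10000010, nat_lit 0x100000100, nat_lit 0x1000001000, nat_lit 0x10000010000, nat_lit 0x100000100000])
  (by decide +kernel)
theorem col0 : Cols q (rhoGL _ _) (eR (ixF 6) om) ⊥ b0 C0 := cols_R (s := 2) (ixF 6) om rfl (by decide +kernel)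
def b1 : GG := glR (matR (ixF 6) om 2 4 C1) (matR (ixF 6) om 2 4 [nat_lit 0x10001100000, nat_lit 0x11111001100, nat_lit 0x100110101011, nat_lit 0x111000010110, nat_lit 0x11010110011, nat_lit 0x111011101011])
  (by decide +kernel)
theorem col1 : Cols q (rhoGL _ _) (eR (ixF 6) om) ⊥ b1 C1 := cols_R (s := 2) (ixF 6) om rfl (by decide +kernel)
def b2 : GG := glR (matR (ixF 6) om 2 4 C2) (matR (ixF 6) om 2 4 [nat_lit 0x101111101111, nat_lit 0x110100001001, nat_lit 0x101110000101, nat_lit 0x110100000011, nat_lit 0x10000001010, nat_lit 0x101110100001])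
  (by decide +kernel)
theorem col2 : Cols q (rhoGL _ _) (eR (ixF 6) om) ⊥ b2 C2 := cols_R (s := 2) (ixF 6) om rfl (by decide +kernel)

theorem slpe_a : allZ2 (slpEnt (nat_lit 12) (nat_lit 4) (nat_lit 15) (nat_lit 2) C (nat_lit 3) SL) (nat_lit 27) (nat_lit 12) = true := by decide +kernel
theorem rele_a : allZ2 (relEnt (nat_lit 12) (nat_lit 4) (nat_lit 15) (nat_lit 2) C (nat_lit 30) σ U62.Rl E) (nat_lit 31) (nat_lit 6) = true := by decide +kernel
theorem misc : q.OK ∧ SL.length = 27 ∧ U62.Rl.length = 31 ∧ allL (ltAll 1) E = true := by decide +kernel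

theorem slpe : ∀ k < 27, ∀ i < 12, (slpEnt (nat_lit 12) (nat_lit 4) (nat_lit 15) (nat_lit 2) C (nat_lit 3) SL) k i = 0 := allZ2_sound slpe_a
theorem rele : ∀ k < 31, ∀ i < 6, (relEnt (nat_lit 12) (nat_lit 4) (nat_lit 15) (nat_lit 2) C (nat_lit 30) σ U62.Rl E) k i = 0 := allZ2_sound rele_a
def o : List GG := [b0, b1, b2]
theorem amb : Amb q (rhoGL _ _) (eR (ixF 6) om) ⊥ := amb_GL misc.1 (by decide +kernel)
noncomputable def hs : ℕ → GG := slpG SL (tup o) o.length
theorem mact : MAct q (rhoGL _ _) (eR (ixF 6) om) ⊥ hs C 30 :=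
  (mact_tup (.cons col0 (.cons col1 (.cons col2 .nil)))).slp amb (misc.2.1 ▸ slpe)
/-- the letters of the model as matrices -/
noncomputable def h : ℕ → GG := fun k => hs (nth 0 σ k)
theorem h_mem {A : Subgroup GG} (hA : ∀ a ∈ o, a ∈ A) (k : ℕ) : h k ∈ A := lnk_mem hA SL σ k
theorem rels_of {Q : Type*} [Group Q] (π : GG →* Q) (hz : π b0 = 1) : Rels (fun k => π (h k)) U62.Rl :=
  mact.rels_z amb (rigid_R _ _) (by decide) misc.2.2 rele π ((congrArg π (slpG_zero SL b0 _)).trans hz)
theorem word_eq {W : List ℕ} {M : Matrix (Fin 6) (Fin 6) H11.F4} (hc : ltAll 30 (W.map (nth 0 σ)) = 0 ∧ ∀ j,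
    ∀ x ∈ [apM q.w q.m q.p C (W.map (nth 0 σ)) (unitV q.w (((ixF 6)).idx j))], ∀ i,
      M i j = valR om 6 2 q.w x (((ixF 6)).idx i)) : ((evA h W : GG) : Matrix (Fin 6) (Fin 6) H11.F4) = M := by
  have := eq_word (s := 2) amb rfl (by decide) mact hc
  rwa [evA_map] at this
theorem ne : h 1 * h 0 ≠ h 0 * h 1 := fun e => by
  have h1 := word_eq (W := [0, 1]) (M := matR (ixF 6) om 2 4 [nat_lit 0x1000000, nat_lit 0x10000111000, nat_lit 0x101010101000, nat_lit 0x1100111010, nat_lit 0x101100, nat_lit 0x100100111010, nat_lit 0x1000001, nat_lit 0x101000010000, nat_lit 0x10101010, nat_lit 0x110110001100, nat_lit 0x101100000000, nat_lit 0x11110100100]) (by decide +kernel)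
  have h2 := word_eq (W := [1, 0]) (M := matR (ixF 6) om 2 4 [nat_lit 0x1000000, nat_lit 0x101100101000, nat_lit 0x111000010000, nat_lit 0x110010111110, nat_lit 0x101000101010, nat_lit 0x11010111110, nat_lit 0x1000001, nat_lit 0x100101100, nat_lit 0x101000111000, nat_lit 0x1100110010, nat_lit 0x10101000, nat_lit 0x100100011010]) (by decide +kernel)
  simp only [evA_cons, evA_nil, one_mul] at h1 h2
  exact absurd (h1.symm.trans ((congrArg Units.val e).trans h2)) (by decide +kernel)
theorem b0_cen : b0 ∈ Subgroup.center GG := center_of_scalar (c := ⟨0, 1⟩) (by decide +kernel)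
theorem m2 : b2 ∈ GU 6 H11.F4 2 := (H11.mem_GU_iff_matrix H11.card_F4 6 _).2 (by decide +kernel)
theorem m1 : b1 ∈ GU 6 H11.F4 2 := (H11.mem_GU_iff_matrix H11.card_F4 6 _).2 (by decide +kernel)
theorem m0 : b0 ∈ GU 6 H11.F4 2 := (H11.mem_GU_iff_matrix H11.card_F4 6 _).2 (by decide +kernel)
theorem mem : ∀ k, h k ∈ GU 6 H11.F4 2 := h_mem (all_cons m0 (all_cons m1 (all_cons m2 all_nil)))
theorem cardX : Nat.card (PSU 6 H11.F4 2) = 9196830720 := by
  have := H11.card_psu (F := H11.F4) (q := 2) rfl (n := 6) (by norm_num)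
  simp [Finset.prod_range_succ, Nat.even_add_one] at this
  omega
theorem equiv : Nonempty (gen U62.g 10 ≃* PSU 6 H11.F4 2) :=
  have := U62.simple
  link_psu U62.bound U62.rels U62.card (by norm_num) (by decide) (rels_of _ ((QuotientGroup.eq_one_iff _).2 b0_cen)) ne mem cardX

end H16.LU62
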