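import Cfsg.Agent.H16.M.G23
import Cfsg.Agent.H16.MatR2
import Cfsg.Agent.H16.S
import Cfsg.Agent.S1059
import Cfsg.Agent.H14.Fld

/-! Generated by tools/h16 (computation kit). -/

set_option maxRecDepth 100000
set_option maxHeartbeats 0

namespace H16.LG23

open Cfsg
def IG : Ix Lie.chevG2.Idx 14 := ixS (ixF 2) (ixF 12)
def q : MP := ⟨14, 6, 63, 3⟩
def om : (ZMod 3) := 1
abbrev GG : Type := GL Lie.chevG2.Idx (ZMod 3)
def C0 : List ℕ := [nat_lit 1, nat_lit 0x40, nat_lit 0x1000, nat_lit 0x40000, nat_lit 0x1000000, nat_lit 0x40000000, nat_lit 0x1000000000, nat_lit 0x40000000000, nat_lit 0x1000000000000, nat_lit 0x40000000000000, nat_lit 0x1000000000000000, nat_lit 0x40000000000000000, nat_lit 0x1000000000000000000, nat_lit 0x40000000000000000000]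
def C1 : List ℕ := [nat_lit 0x40000000000001, nat_lit 0x40000000000040, nat_lit 0x1000, nat_lit 0x80082040000, nat_lit 0x81000000, nat_lit 0x40000000, nat_lit 0x80001000000001, nat_lit 0x40000000000, nat_lit 0x1042001000000000000, nat_lit 0x40000000000000, nat_lit 0x41000000000000000, nat_lit 0x40000000000000000, nat_lit 0x1000000000000000000, nat_lit 0x40000000000000000000]
def C2 : List ℕ := [nat_lit 1, nat_lit 0x1000000000040, nat_lit 0x81000, nat_lit 0x40000, nat_lit 0x1000000, nat_lit 0x2040000000, nat_lit 0x1000000000, nat_lit 0x2040000000040, nat_lit 0x1000000000000, nat_lit 0x1040000000000000, nat_lit 0x1000000000000000, nat_lit 0x40000000000000000, nat_lit 0x41000000000000000000, nat_lit 0x40000000000000000000]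
def C3 : List ℕ := [nat_lit 0x2000000001, nat_lit 0x2000000040, nat_lit 0x1000, nat_lit 0x40000, nat_lit 0x1000000, nat_lit 0x42000000, nat_lit 0x1000000000, nat_lit 0x40041080000, nat_lit 0x1000000000000, nat_lit 0x40002000000002, nat_lit 0x1000000000000000, nat_lit 0x41000000000000000, nat_lit 0x1042001000000000000, nat_lit 0x40000000000000000000]
def C4 : List ℕ := [nat_lit 1, nat_lit 0x80000000040, nat_lit 0x1000, nat_lit 0x42000, nat_lit 0x1000000, nat_lit 0x40000000, nat_lit 0x1080000000, nat_lit 0x40000000000, nat_lit 0x1080000000080, nat_lit 0x40000000000000, nat_lit 0x1040000000000000, nat_lit 0x40000000000000000, nat_lit 0x1000000000000000000, nat_lit 0x41000000000000000000]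
def C5 : List ℕ := [nat_lit 1, nat_lit 0x2000000000040, nat_lit 0x41000, nat_lit 0x40000, nat_lit 0x1000000, nat_lit 0x1040000000, nat_lit 0x1000000000, nat_lit 0x2040000000080, nat_lit 0x1000000000000, nat_lit 0x2040000000000000, nat_lit 0x1000000000000000, nat_lit 0x40000000000000000, nat_lit 0x81000000000000000000, nat_lit 0x40000000000000000000]
def C6 : List ℕ := [nat_lit 0x1000000001, nat_lit 0x1000000040, nat_lit 0x1000, nat_lit 0x40000, nat_lit 0x1000000, nat_lit 0x41000000, nat_lit 0x1000000000, nat_lit 0x40081040000, nat_lit 0x1000000000000, nat_lit 0x40002000000001, nat_lit 0x1000000000000000, nat_lit 0x42000000000000000, nat_lit 0x1082002000000000000, nat_lit 0x40000000000000000000]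
def C7 : List ℕ := [nat_lit 1, nat_lit 0x40000000040, nat_lit 0x1000, nat_lit 0x41000, nat_lit 0x1000000, nat_lit 0x40000000, nat_lit 0x1040000000, nat_lit 0x40000000000, nat_lit 0x1080000000040, nat_lit 0x40000000000000, nat_lit 0x1080000000000000, nat_lit 0x40000000000000000, nat_lit 0x1000000000000000000, nat_lit 0x42000000000000000000]
def C8 : List ℕ := [nat_lit 1, nat_lit 0x1000000000040, nat_lit 0x42000, nat_lit 0x80000, nat_lit 0x1000000, nat_lit 0x1080000000, nat_lit 0x2000000000, nat_lit 0x2040000000040, nat_lit 0x1000000000000, nat_lit 0x2080000000000000, nat_lit 0x2000000000000000, nat_lit 0x40000000000000000, nat_lit 0x82000000000000000000, nat_lit 0x80000000000000000000]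
def C9 : List ℕ := [nat_lit 1, nat_lit 0x2000000000040, nat_lit 0x82000, nat_lit 0x80000, nat_lit 0x1000000, nat_lit 0x2080000000, nat_lit 0x2000000000, nat_lit 0x2040000000080, nat_lit 0x1000000000000, nat_lit 0x1080000000000000, nat_lit 0x2000000000000000, nat_lit 0x40000000000000000, nat_lit 0x42000000000000000000, nat_lit 0x80000000000000000000]
def C10 : List ℕ := [nat_lit 0x40080000000000001, nat_lit 0x40000080000000000040, nat_lit 0x41040040000040002081, nat_lit 0x82080081081042080002, nat_lit 0x2080000041000001, nat_lit 0x80040000080000000, nat_lit 0x42040002000000001, nat_lit 0x1000000040000000000, nat_lit 0x2041001000000000000, nat_lit 0x80000000000000, nat_lit 0x42000000000000000, nat_lit 0x40000000000000000, nat_lit 0x2000000000000000000, nat_lit 0x80000000000000000000]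
def C11 : List ℕ := [nat_lit 1, nat_lit 0x82000002000000000040, nat_lit 0x1000000040000082041, nat_lit 0x2000000000000040082, nat_lit 0x40000002000000, nat_lit 0x40000001040000000, nat_lit 0x80000002000000000, nat_lit 0x42000001080000000040, nat_lit 0x80000002000000000000, nat_lit 0x1080000000000000, nat_lit 0x1000000000000000, nat_lit 0x80000000000000000, nat_lit 0x81000000000000000000, nat_lit 0x80000000000000000000]
def C12 : List ℕ := [nat_lit 1, nat_lit 0x81000002000000000040, nat_lit 0x1080000082040, nat_lit 0x42000002000000040041, nat_lit 0x1080000002000000, nat_lit 0x1040000000, nat_lit 0x40000002000000000, nat_lit 0x1080000000040, nat_lit 0x40000002000000000000, nat_lit 0x1080000000000000, nat_lit 0x1000000000000000, nat_lit 0x80000000000000000, nat_lit 0x81000000000000000000, nat_lit 0x80000000000000000000]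
def C13 : List ℕ := [nat_lit 0x81000000000000001, nat_lit 0x41002000000000000040, nat_lit 0x81080082082081002080, nat_lit 0x1042001002000080082, nat_lit 0x41040001001000002, nat_lit 0x1080000080000002, nat_lit 0x41000002000000000, nat_lit 0x81080080040000000000, nat_lit 0x80000001000000000000, nat_lit 0x40080000000000000, nat_lit 0x2000000000000000, nat_lit 0x40000000000000000, nat_lit 0x2000000000000000000, nat_lit 0x80000000000000000000]
def C14 : List ℕ := [nat_lit 0x41000000000000001, nat_lit 0x41002000000000000040, nat_lit 0x80041082082041002082, nat_lit 0x41082001001000080082, nat_lit 0x40040001001000001, nat_lit 0x41040000080000002, nat_lit 0x42000002000000000, nat_lit 0x81080080040000000000, nat_lit 0x80000001000000000000, nat_lit 0x40080000000000000, nat_lit 0x2000000000000000, nat_lit 0x40000000000000000, nat_lit 0x2000000000000000000, nat_lit 0x80000000000000000000]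
def C15 : List ℕ := [nat_lit 0x42040000000000001, nat_lit 0x40002042000000000040, nat_lit 0x2081082002080041042, nat_lit 0x41002080042041080081, nat_lit 0x82080001042000002, nat_lit 0x82040002080000000, nat_lit 0x42080001000000001, nat_lit 0x42000001080000000040, nat_lit 0x42081002000000000000, nat_lit 0x2040000000000000, nat_lit 0x82000000000000000, nat_lit 0x80000000000000000, nat_lit 0x42000000000000000000, nat_lit 0x40000000000000000000]
def C16 : List ℕ := [nat_lit 0x40080000000000001, nat_lit 0x81082082000000000040, nat_lit 0x1042001042041041082, nat_lit 0x81001082081042080002, nat_lit 0x82040000082000002, nat_lit 0x82080002080000001, nat_lit 0x81080001000000002, nat_lit 0x80041081080000000040, nat_lit 0x1082002000000000000, nat_lit 0x42040000000000000, nat_lit 0x42000000000000000, nat_lit 0x80000000000000000, nat_lit 0x42000000000000000000, nat_lit 0x40000000000000000000]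
def C17 : List ℕ := [nat_lit 0x40000001000000001, nat_lit 0x1081001001000000040, nat_lit 0x80041081080081042001, nat_lit 0x1042001002000080082, nat_lit 0x41040001001000002, nat_lit 0x42040000082000000, nat_lit 0x41000002000000000, nat_lit 0x41041081040081040082, nat_lit 0x80000001000000000000, nat_lit 0x40080001000000002, nat_lit 0x2000000000000000, nat_lit 0x42000000000000000, nat_lit 0x42041001000000000000, nat_lit 0x80000000000000000000]
def C18 : List ℕ := [nat_lit 0x1002000002, nat_lit 0x2080042, nat_lit 0x1000000000000, nat_lit 0x80000, nat_lit 0x2000000000, nat_lit 0x1000002000000000, nat_lit 0x2000000, nat_lit 0x40002002002000080000, nat_lit 0x1000, nat_lit 0x82000002001000002, nat_lit 0x42000000, nat_lit 0x80001080000001, nat_lit 0x2081042000082042040, nat_lit 0x40041081000]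
def C : List (List ℕ) := [C0, C1, C2, C3, C4] ++ [C5, C6, C7, C8, C9, C10, C11, C12, C13, C14, C15, C16, C17, C18]
def SL : List (List ℕ) := [[nat_lit 2],
  [nat_lit 3],
  [nat_lit 4],
  [nat_lit 4, nat_lit 2, nat_lit 4],
  [nat_lit 8],
  [nat_lit 9, nat_lit 1, nat_lit 5, nat_lit 1, nat_lit 5],
  [nat_lit 6, nat_lit 1, nat_lit 5, nat_lit 3, nat_lit 1, nat_lit 9, nat_lit 3],
  [nat_lit 11],
  [nat_lit 10, nat_lit 12, nat_lit 10, nat_lit 11, nat_lit 10],
  [nat_lit 13],
  [nat_lit 10, nat_lit 12, nat_lit 10, nat_lit 14],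
  [nat_lit 15],
  [nat_lit 14, nat_lit 5, nat_lit 6],
  [nat_lit 15, nat_lit 17, nat_lit 15, nat_lit 13, nat_lit 15, nat_lit 14, nat_lit 17, nat_lit 13, nat_lit 4, nat_lit 17, nat_lit 7, nat_lit 6, nat_lit 16, nat_lit 4]]
def σ : List ℕ := [nat_lit 13, nat_lit 14, nat_lit 15, nat_lit 16, nat_lit 17, nat_lit 18]
def E : List (List ℕ) := [[],
  [],
  [],
  [],
  [],
  [],
  [],
  [],
  [],
  [],
  [],
  [],
  [],
  [],
  [],
  [],
  []]
def b0 : GG := glR (matR IG om 1 6 C0) (matR IG om 1 6 [nat_lit 1, nat_lit 0x40, nat_lit 0x1000, nat_lit 0x40000, nat_lit 0x1000000, nat_lit 0x40000000, nat_lit 0x1000000000, nat_lit 0x40000000000, nat_lit 0x1000000000000, nat_lit 0x40000000000000, nat_lit 0x1000000000000000, nat_lit 0x40000000000000000, nat_lit 0x1000000000000000000, nat_lit 0x40000000000000000000])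
  (by decide +kernel)
theorem col0 : Cols q (rhoGL _ _) (eR IG om) ⊥ b0 C0 := cols_R (s := 1) IG om rfl (by decide +kernel)
def b1 : GG := glR (matR IG om 1 6 C1) (matR IG om 1 6 [nat_lit 0x80000000000001, nat_lit 0x80000000000040, nat_lit 0x1000, nat_lit 0x40081040000, nat_lit 0x41000000, nat_lit 0x40000000, nat_lit 0x80001000000002, nat_lit 0x40000000000, nat_lit 0x2041001000000000000, nat_lit 0x40000000000000, nat_lit 0x81000000000000000, nat_lit 0x40000000000000000, nat_lit 0x1000000000000000000, nat_lit 0x40000000000000000000])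
  (by decide +kernel)
theorem col1 : Cols q (rhoGL _ _) (eR IG om) ⊥ b1 C1 := cols_R (s := 1) IG om rfl (by decide +kernel)
def b2 : GG := glR (matR IG om 1 6 C2) (matR IG om 1 6 [nat_lit 1, nat_lit 0x2000000000040, nat_lit 0x41000, nat_lit 0x40000, nat_lit 0x1000000, nat_lit 0x1040000000, nat_lit 0x1000000000, nat_lit 0x2040000000080, nat_lit 0x1000000000000, nat_lit 0x2040000000000000, nat_lit 0x1000000000000000, nat_lit 0x40000000000000000, nat_lit 0x81000000000000000000, nat_lit 0x40000000000000000000])
  (by decide +kernel)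
theorem col2 : Cols q (rhoGL _ _) (eR IG om) ⊥ b2 C2 := cols_R (s := 1) IG om rfl (by decide +kernel)
def b3 : GG := glR (matR IG om 1 6 C3) (matR IG om 1 6 [nat_lit 0x1000000001, nat_lit 0x1000000040, nat_lit 0x1000, nat_lit 0x40000, nat_lit 0x1000000, nat_lit 0x41000000, nat_lit 0x1000000000, nat_lit 0x40081040000, nat_lit 0x1000000000000, nat_lit 0x40002000000001, nat_lit 0x1000000000000000, nat_lit 0x42000000000000000, nat_lit 0x1082002000000000000, nat_lit 0x40000000000000000000])
  (by decide +kernel)
theorem col3 : Cols q (rhoGL _ _) (eR IG om) ⊥ b3 C3 := cols_R (s := 1) IG om rfl (by decide +kernel)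
def b4 : GG := glR (matR IG om 1 6 C4) (matR IG om 1 6 [nat_lit 1, nat_lit 0x40000000040, nat_lit 0x1000, nat_lit 0x41000, nat_lit 0x1000000, nat_lit 0x40000000, nat_lit 0x1040000000, nat_lit 0x40000000000, nat_lit 0x1080000000040, nat_lit 0x40000000000000, nat_lit 0x1080000000000000, nat_lit 0x40000000000000000, nat_lit 0x1000000000000000000, nat_lit 0x42000000000000000000])
  (by decide +kernel)
theorem col4 : Cols q (rhoGL _ _) (eR IG om) ⊥ b4 C4 := cols_R (s := 1) IG om rfl (by decide +kernel)

theorem slpe_a : allZ2 (slpEnt (nat_lit 14) (nat_lit 6) (nat_lit 63) (nat_lit 3) C (nat_lit 5) SL) (nat_lit 14) (nat_lit 14) = true := by decide +kernel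
theorem rele_a : allZ2 (relEnt (nat_lit 14) (nat_lit 6) (nat_lit 63) (nat_lit 3) C (nat_lit 19) σ G23.Rl E) (nat_lit 17) (nat_lit 14) = true := by decide +kernel
theorem misc : q.OK ∧ SL.length = 14 ∧ G23.Rl.length = 17 ∧ allL (ltAll 1) E = true := by decide +kernel

theorem slpe : ∀ k < 14, ∀ i < 14, (slpEnt (nat_lit 14) (nat_lit 6) (nat_lit 63) (nat_lit 3) C (nat_lit 5) SL) k i = 0 := allZ2_sound slpe_a
theorem rele : ∀ k < 17, ∀ i < 14, (relEnt (nat_lit 14) (nat_lit 6) (nat_lit 63) (nat_lit 3) C (nat_lit 19) σ G23.Rl E) k i = 0 := allZ2_sound rele_a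
def o : List GG := [b0, b1, b2, b3, b4]
theorem amb : Amb q (rhoGL _ _) (eR IG om) ⊥ := amb_GL misc.1 (by decide +kernel)
noncomputable def hs : ℕ → GG := slpG SL (tup o) o.length
theorem mact : MAct q (rhoGL _ _) (eR IG om) ⊥ hs C 19 :=
  (mact_tup (.cons col0 (.cons col1 (.cons col2 (.cons col3 (.cons col4 .nil)))))).slp amb (misc.2.1 ▸ slpe)
/-- the letters of the model as matrices -/
noncomputable def h : ℕ → GG := fun k => hs (nth 0 σ k)
theorem h_mem {A : Subgroup GG} (hA : ∀ a ∈ o, a ∈ A) (k : ℕ) : h k ∈ A := lnk_mem hA SL σ k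
theorem rels_of {Q : Type*} [Group Q] (π : GG →* Q) (hz : π b0 = 1) : Rels (fun k => π (h k)) G23.Rl :=
  mact.rels_z amb (rigid_R _ _) (by decide) misc.2.2 rele π ((congrArg π (slpG_zero SL b0 _)).trans hz)
theorem word_eq {W : List ℕ} {M : Matrix Lie.chevG2.Idx Lie.chevG2.Idx (ZMod 3)} (hc : ltAll 19 (W.map (nth 0 σ)) = 0 ∧ ∀ j,
    ∀ x ∈ [apM q.w q.m q.p C (W.map (nth 0 σ)) (unitV q.w ((IG).idx j))], ∀ i,
      M i j = valR om 14 1 q.w x ((IG).idx i)) : ((evA h W : GG) : Matrix Lie.chevG2.Idx Lie.chevG2.Idx (ZMod 3)) = M := by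
  have := eq_word (s := 1) amb rfl (by decide) mact hc
  rwa [evA_map] at this
theorem ne : h 2 * h 0 ≠ h 0 * h 2 := fun e => by
  have h1 := word_eq (W := [0, 2]) (M := matR IG om 1 6 [nat_lit 0x41040000000000001, nat_lit 0x2040042000000000040, nat_lit 0x2081042042002082002, nat_lit 0x80082040000, nat_lit 0x40002042000002, nat_lit 0x82000001040000002, nat_lit 0x40002000000002, nat_lit 0x41041081080000000040, nat_lit 0x2081002000000000000, nat_lit 0x81080000000000000, nat_lit 0x41000000000000000, nat_lit 0x80000000000000000, nat_lit 0x81000000000000000000, nat_lit 0x80000000000000000000]) (by decide +kernel)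
  have h2 := word_eq (W := [2, 0]) (M := matR IG om 1 6 [nat_lit 0x42080000000000001, nat_lit 0x41040082000000000040, nat_lit 0x41040042082001082082, nat_lit 0x1082002040081040000, nat_lit 0x81080001082000002, nat_lit 0x82000001040000001, nat_lit 0x40002000000001, nat_lit 0x1042041080000000040, nat_lit 0x1082002000000000000, nat_lit 0x41080000000000000, nat_lit 0x81000000000000000, nat_lit 0x80000000000000000, nat_lit 0x81000000000000000000, nat_lit 0x80000000000000000000]) (by decide +kernel)
  simp only [evA_cons, evA_nil, one_mul] at h1 h2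
  exact absurd (h1.symm.trans ((congrArg Units.val e).trans h2)) (by decide +kernel)
theorem b0_cen : b0 ∈ Subgroup.center GG := center_of_scalar (c := 1) (by decide +kernel)
theorem b0_eq : b0 = 1 := Units.ext (by decide +kernel)
theorem rels : Rels h G23.Rl := rels_id (rels_of _) b0_eq
theorem m4 : b4 ∈ Lie.chevG2.group (ZMod 3) := Subgroup.subset_closure ⟨⟨5, by decide⟩, 1, by decide +kernel⟩
theorem m3 : b3 ∈ Lie.chevG2.group (ZMod 3) := Subgroup.subset_closure ⟨⟨4, by decide⟩, 1, by decide +kernel⟩
theorem m2 : b2 ∈ Lie.chevG2.group (ZMod 3) := Subgroup.subset_closure ⟨⟨6, by decide⟩, 1, by decide +kernel⟩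
theorem m1 : b1 ∈ Lie.chevG2.group (ZMod 3) := Subgroup.subset_closure ⟨⟨7, by decide⟩, 1, by decide +kernel⟩
theorem m0 : b0 ∈ Lie.chevG2.group (ZMod 3) := mem_of_eq_one b0_eq
theorem mem : ∀ k, h k ∈ Lie.chevG2.group (ZMod 3) := h_mem (all_cons m0 (all_cons m1 (all_cons m2 (all_cons m3 (all_cons m4 all_nil)))))
theorem equiv : Nonempty (gen G23.g 6 ≃* Lie.chevG2.group (ZMod 3)) :=
  have := G23.simple
  have ⟨h1, e, _⟩ := link_sub G23.bound G23.rels G23.card rels (by decide) ne mem
    ((Cfsg.Agent.S1059.result (q := 3) rfl).trans (by norm_num)) (by norm_num)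
  ⟨e.trans (MulEquiv.subgroupCongr h1)⟩
theorem congr {F K : Type*} [Field F] [Field K] [Fintype F] [Fintype K] (f : F ≃+* K) :
    Nonempty (Lie.chevG2.group F ≃* Lie.chevG2.group K) :=
  have : Finite (Lie.chevG2.group K) := inferInstance
  ⟨H11.mulEquivOfInjectiveOfCard _ (H14.goodG2.mapG_inj f.toRingHom) (by
    rw [Cfsg.Agent.S1059.result rfl, Cfsg.Agent.S1059.result (Fintype.card_congr f.toEquiv)])⟩

end H16.LG23
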