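import Cfsg.Agent.H16.M.U43
import Cfsg.Agent.H16.MatR2
import Cfsg.Agent.H16.S

/-! Generated by tools/h16 (computation kit). -/

set_option maxRecDepth 100000
set_option maxHeartbeats 0

namespace H16.LU43

open Cfsg
def q : MP := ⟨8, 6, 63, 3⟩
def om : F9c := ⟨0, 1⟩
abbrev GG : Type := GL (Fin 4) F9c
def C0 : List ℕ := [nat_lit 0x1000000, nat_lit 0x40000000, nat_lit 0x1000000000, nat_lit 0x40000000000, nat_lit 2, nat_lit 0x80, nat_lit 0x2000, nat_lit 0x80000]
def C1 : List ℕ := [nat_lit 0x82081081080, nat_lit 0x2042041082, nat_lit 0x41041081002, nat_lit 0x40081042082, nat_lit 0x81080041042, nat_lit 0x41082001081, nat_lit 0x81002082082, nat_lit 0x42082080042]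
def C2 : List ℕ := [nat_lit 0x2001000081, nat_lit 0x41080040, nat_lit 0x82081040042, nat_lit 0x1041042082, nat_lit 0x81001002, nat_lit 0x80040000082, nat_lit 0x40042041042, nat_lit 0x42082002082]
def C3 : List ℕ := [nat_lit 0x82042082080, nat_lit 0x42081080082, nat_lit 0x2041081041, nat_lit 0x82001042042, nat_lit 0x82080041081, nat_lit 0x80082081042, nat_lit 0x81041001082, nat_lit 0x42042041002]
def C4 : List ℕ := [nat_lit 0x82082082001, nat_lit 0x81080081042, nat_lit 0x81001080000, nat_lit 0x1000041080, nat_lit 0x82001041041, nat_lit 0x81042042040, nat_lit 0x80000042002, nat_lit 0x41080002000]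
def C5 : List ℕ := [nat_lit 0x42080002000, nat_lit 0x82001040000, nat_lit 0x1081000040, nat_lit 0x40041000001, nat_lit 0x2000081040, nat_lit 0x40000041002, nat_lit 0x40002042, nat_lit 0x1080082]
def C6 : List ℕ := [nat_lit 0x82080040000, nat_lit 0x81001001000, nat_lit 0x2041000002, nat_lit 0x80042000040, nat_lit 0x40000041040, nat_lit 0x1000042002, nat_lit 0x2001082, nat_lit 0x40040081]
def C7 : List ℕ := [nat_lit 0x1041042041, nat_lit 0x81081001042, nat_lit 0x42080001000, nat_lit 0x40080001080, nat_lit 0x42041002082, nat_lit 0x1042042042, nat_lit 0x1000081040, nat_lit 0x1080080040]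
def C8 : List ℕ := [nat_lit 0x82000081, nat_lit 0x41042080041, nat_lit 0x1082041042, nat_lit 0x82040000001, nat_lit 0x81000041, nat_lit 0x80041082081, nat_lit 0x41042002041, nat_lit 0x1041080]
def C9 : List ℕ := [nat_lit 0x81041001082, nat_lit 0x2042081081, nat_lit 0x1002001040, nat_lit 0x80082081042, nat_lit 0x1082042082, nat_lit 0x81081001081, nat_lit 0x1040002001, nat_lit 0x81042040041]
def C10 : List ℕ := [nat_lit 0x41042080042, nat_lit 0x40082041082, nat_lit 0x2042041041, nat_lit 0x40001080080, nat_lit 0x80042082081, nat_lit 0x41082080041, nat_lit 0x41041001081, nat_lit 0x80080080002]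
def C11 : List ℕ := [nat_lit 0x82000040001, nat_lit 0x41000080040, nat_lit 0x81081000000, nat_lit 0x80081042081, nat_lit 0x40001041000, nat_lit 0x80040082000, nat_lit 0x42042, nat_lit 0x42081040042]
def C12 : List ℕ := [nat_lit 0x82000040001, nat_lit 0x41000080040, nat_lit 0x2081080000, nat_lit 0x41081040081, nat_lit 0x40001041000, nat_lit 0x80040082000, nat_lit 0x80000001042, nat_lit 0x40081082042]
def C13 : List ℕ := [nat_lit 0x80082082081, nat_lit 0x82041040081, nat_lit 0x80001042000, nat_lit 0x1042001, nat_lit 0x82081040041, nat_lit 0x40081041082, nat_lit 0x42000040002, nat_lit 0x42001000002]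
def C14 : List ℕ := [nat_lit 0x81041001081, nat_lit 0x80081082041, nat_lit 0x82001041042, nat_lit 0x42082042040, nat_lit 0x1081042082, nat_lit 0x82041040042, nat_lit 0x41042041002, nat_lit 0x42040081041]
def C15 : List ℕ := [nat_lit 0x41041080041, nat_lit 0x81042001081, nat_lit 0x41082041040, nat_lit 0x42042081002, nat_lit 0x80041082082, nat_lit 0x1081042081, nat_lit 0x41040082041, nat_lit 0x81002081081]
def C16 : List ℕ := [nat_lit 0x41042080041, nat_lit 0x81082001081, nat_lit 0x42082041040, nat_lit 0x82042081002, nat_lit 0x80041082081, nat_lit 0x1081042041, nat_lit 0x41040081041, nat_lit 0x81002041081]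
def C17 : List ℕ := [nat_lit 0x41041080041, nat_lit 0x81042001081, nat_lit 0x41082041040, nat_lit 0x42042081002, nat_lit 0x80041082082, nat_lit 0x1081042081, nat_lit 0x41040082041, nat_lit 0x81002081081]
def C18 : List ℕ := [nat_lit 0x41042080041, nat_lit 0x81082001081, nat_lit 0x42082041040, nat_lit 0x82042081002, nat_lit 0x80041082081, nat_lit 0x1081042041, nat_lit 0x41040081041, nat_lit 0x81002041081]
def C19 : List ℕ := [nat_lit 0x41042080082, nat_lit 0x80042082041, nat_lit 0x82000002001, nat_lit 0x40002040001, nat_lit 0x80082082081, nat_lit 0x82041040081, nat_lit 0x2001041000, nat_lit 0x40001080001]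
def C20 : List ℕ := [nat_lit 0x40041041042, nat_lit 0x82000042, nat_lit 0x1002002080, nat_lit 0x81042040082, nat_lit 0x41042080082, nat_lit 0x42000041, nat_lit 0x2080002001, nat_lit 0x40082042081]
def C21 : List ℕ := [nat_lit 0x42000002001, nat_lit 0x40000041040, nat_lit 0x2001081, nat_lit 0x41040080, nat_lit 0x2001081000, nat_lit 0x41040080000, nat_lit 0x1081000001, nat_lit 0x40080000082]
def C22 : List ℕ := [nat_lit 0x81000001001, nat_lit 0x80000082040, nat_lit 0x1001042, nat_lit 0x82040040, nat_lit 0x1001042000, nat_lit 0x82040040000, nat_lit 0x1042000002, nat_lit 0x40040000041]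
def C23 : List ℕ := [nat_lit 0x82082040042, nat_lit 0x41000042, nat_lit 0x2080002002, nat_lit 0x40081042082, nat_lit 0x40042041041, nat_lit 0x42000082, nat_lit 0x2002001040, nat_lit 0x42082080042]
def C24 : List ℕ := [nat_lit 0x80081082082, nat_lit 0x41081080041, nat_lit 0x1001082000, nat_lit 0x80001040001, nat_lit 0x82082040042, nat_lit 0x80041082042, nat_lit 0x82000002002, nat_lit 0x40001040002]
def C25 : List ℕ := [nat_lit 0x1000002042, nat_lit 0x40000080041, nat_lit 0x2081002, nat_lit 0x80082080, nat_lit 0x2042002000, nat_lit 0x80041080000, nat_lit 0x81002000001, nat_lit 0x82080000040]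
def C : List (List ℕ) := [C0, C1, C2] ++ [C3, C4, C5, C6, C7, C8, C9, C10, C11, C12, C13, C14, C15, C16, C17, C18, C19, C20, C21, C22, C23, C24, C25]
def SL : List (List ℕ) := [[nat_lit 1],
  [nat_lit 2],
  [nat_lit 4, nat_lit 4, nat_lit 1, nat_lit 1, nat_lit 4, nat_lit 3, nat_lit 4, nat_lit 1],
  [nat_lit 5],
  [nat_lit 2, nat_lit 3, nat_lit 3, nat_lit 2, nat_lit 3, nat_lit 3],
  [nat_lit 7],
  [nat_lit 4, nat_lit 1, nat_lit 4, nat_lit 1, nat_lit 1, nat_lit 2, nat_lit 1],
  [nat_lit 9],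
  [nat_lit 7, nat_lit 6, nat_lit 6, nat_lit 8],
  [nat_lit 11],
  [nat_lit 5, nat_lit 10, nat_lit 7],
  [nat_lit 6, nat_lit 8, nat_lit 8, nat_lit 5],
  [nat_lit 13, nat_lit 13, nat_lit 14, nat_lit 12],
  [nat_lit 15],
  [nat_lit 16],
  [nat_lit 17],
  [nat_lit 17, nat_lit 11, nat_lit 13, nat_lit 17],
  [nat_lit 19],
  [nat_lit 18, nat_lit 11, nat_lit 17, nat_lit 11],
  [nat_lit 21],
  [nat_lit 17, nat_lit 19, nat_lit 19, nat_lit 17, nat_lit 19, nat_lit 19, nat_lit 6, nat_lit 9],
  [nat_lit 23],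
  [nat_lit 18, nat_lit 20, nat_lit 23, nat_lit 21, nat_lit 20, nat_lit 22, nat_lit 4, nat_lit 24]]
def σ : List ℕ := [nat_lit 17, nat_lit 18, nat_lit 19, nat_lit 20, nat_lit 21, nat_lit 22, nat_lit 23, nat_lit 24, nat_lit 25]
def E : List (List ℕ) := [[],
  [],
  [],
  [],
  [],
  [],
  [],
  [],
  [],
  [nat_lit 0, nat_lit 0, nat_lit 0],
  [nat_lit 0, nat_lit 0],
  [],
  [],
  [nat_lit 0, nat_lit 0],
  [],
  [],
  [nat_lit 0, nat_lit 0, nat_lit 0],
  [nat_lit 0, nat_lit 0],
  [nat_lit 0, nat_lit 0],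
  [nat_lit 0],
  [],
  [],
  [nat_lit 0, nat_lit 0],
  [],
  [nat_lit 0, nat_lit 0, nat_lit 0],
  [nat_lit 0, nat_lit 0, nat_lit 0]]
def b0 : GG := glR (matR (ixF 4) om 2 6 C0) (matR (ixF 4) om 2 6 [nat_lit 0x2000000, nat_lit 0x80000000, nat_lit 0x2000000000, nat_lit 0x80000000000])
  (by decide +kernel)
theorem col0 : Cols q (rhoGL _ _) (eR (ixF 4) om) ⊥ b0 C0 := cols_R (s := 2) (ixF 4) om rfl (by decide +kernel)
def b1 : GG := glR (matR (ixF 4) om 2 6 C1) (matR (ixF 4) om 2 6 [nat_lit 0x82042082080, nat_lit 0x42081080082, nat_lit 0x2041081041, nat_lit 0x82001042042])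
  (by decide +kernel)
theorem col1 : Cols q (rhoGL _ _) (eR (ixF 4) om) ⊥ b1 C1 := cols_R (s := 2) (ixF 4) om rfl (by decide +kernel)
def b2 : GG := glR (matR (ixF 4) om 2 6 C2) (matR (ixF 4) om 2 6 [nat_lit 0x82082082001, nat_lit 0x81080081042, nat_lit 0x81001080000, nat_lit 0x1000041080])
  (by decide +kernel)
theorem col2 : Cols q (rhoGL _ _) (eR (ixF 4) om) ⊥ b2 C2 := cols_R (s := 2) (ixF 4) om rfl (by decide +kernel)

theorem slpe_a : allZ2 (slpEnt (nat_lit 8) (nat_lit 6) (nat_lit 63) (nat_lit 3) C (nat_lit 3) SL) (nat_lit 23) (nat_lit 8) = true := by decide +kernel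
theorem rele_a : allZ2 (relEnt (nat_lit 8) (nat_lit 6) (nat_lit 63) (nat_lit 3) C (nat_lit 26) σ U43.Rl E) (nat_lit 26) (nat_lit 4) = true := by decide +kernel
theorem misc : q.OK ∧ SL.length = 23 ∧ U43.Rl.length = 26 ∧ allL (ltAll 1) E = true := by decide +kernel

theorem slpe : ∀ k < 23, ∀ i < 8, (slpEnt (nat_lit 8) (nat_lit 6) (nat_lit 63) (nat_lit 3) C (nat_lit 3) SL) k i = 0 := allZ2_sound slpe_a
theorem rele : ∀ k < 26, ∀ i < 4, (relEnt (nat_lit 8) (nat_lit 6) (nat_lit 63) (nat_lit 3) C (nat_lit 26) σ U43.Rl E) k i = 0 := allZ2_sound rele_a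
def o : List GG := [b0, b1, b2]
theorem amb : Amb q (rhoGL _ _) (eR (ixF 4) om) ⊥ := amb_GL misc.1 (by decide +kernel)
noncomputable def hs : ℕ → GG := slpG SL (tup o) o.length
theorem mact : MAct q (rhoGL _ _) (eR (ixF 4) om) ⊥ hs C 26 :=
  (mact_tup (.cons col0 (.cons col1 (.cons col2 .nil)))).slp amb (misc.2.1 ▸ slpe)
/-- the letters of the model as matrices -/
noncomputable def h : ℕ → GG := fun k => hs (nth 0 σ k)
theorem h_mem {A : Subgroup GG} (hA : ∀ a ∈ o, a ∈ A) (k : ℕ) : h k ∈ A := lnk_mem hA SL σ k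
theorem rels_of {Q : Type*} [Group Q] (π : GG →* Q) (hz : π b0 = 1) : Rels (fun k => π (h k)) U43.Rl :=
  mact.rels_z amb (rigid_R _ _) (by decide) misc.2.2 rele π ((congrArg π (slpG_zero SL b0 _)).trans hz)
theorem word_eq {W : List ℕ} {M : Matrix (Fin 4) (Fin 4) F9c} (hc : ltAll 26 (W.map (nth 0 σ)) = 0 ∧ ∀ j,
    ∀ x ∈ [apM q.w q.m q.p C (W.map (nth 0 σ)) (unitV q.w (((ixF 4)).idx j))], ∀ i,
      M i j = valR om 4 2 q.w x (((ixF 4)).idx i)) : ((evA h W : GG) : Matrix (Fin 4) (Fin 4) F9c) = M := by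
  have := eq_word (s := 2) amb rfl (by decide) mact hc
  rwa [evA_map] at this
theorem ne : h 2 * h 0 ≠ h 0 * h 2 := fun e => by
  have h1 := word_eq (W := [0, 2]) (M := matR (ixF 4) om 2 6 [nat_lit 0x42081002042, nat_lit 0x1082042041, nat_lit 0x82040000002, nat_lit 0x41041002042, nat_lit 0x2042081042, nat_lit 0x42041002041, nat_lit 0x2041080, nat_lit 0x2042082082]) (by decide +kernel)
  have h2 := word_eq (W := [2, 0]) (M := matR (ixF 4) om 2 6 [nat_lit 0x2080081000, nat_lit 0x2000081001, nat_lit 0x1040002002, nat_lit 0x81041040042, nat_lit 0x81000001040, nat_lit 0x81001001000, nat_lit 0x2002002080, nat_lit 0x40042042082]) (by decide +kernel)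
  simp only [evA_cons, evA_nil, one_mul] at h1 h2
  exact absurd (h1.symm.trans ((congrArg Units.val e).trans h2)) (by decide +kernel)
theorem b0_cen : b0 ∈ Subgroup.center GG := center_of_scalar (c := ⟨0, 1⟩) (by decide +kernel)
theorem m2 : b2 ∈ GU 4 F9c 3 := (H11.mem_GU_iff_matrix card_F9c 4 _).2 (by decide +kernel)
theorem m1 : b1 ∈ GU 4 F9c 3 := (H11.mem_GU_iff_matrix card_F9c 4 _).2 (by decide +kernel)
theorem m0 : b0 ∈ GU 4 F9c 3 := (H11.mem_GU_iff_matrix card_F9c 4 _).2 (by decide +kernel)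
theorem mem : ∀ k, h k ∈ GU 4 F9c 3 := h_mem (all_cons m0 (all_cons m1 (all_cons m2 all_nil)))
theorem cardX : Nat.card (PSU 4 F9c 3) = 3265920 := by
  have := H11.card_psu (F := F9c) (q := 3) rfl (n := 4) (by norm_num)
  simp [Finset.prod_range_succ, Nat.even_add_one] at this
  omega
theorem equiv : Nonempty (gen U43.g 9 ≃* PSU 4 F9c 3) :=
  have := U43.simple
  link_psu U43.bound U43.rels U43.card (by norm_num) (by decide) (rels_of _ ((QuotientGroup.eq_one_iff _).2 b0_cen)) ne mem cardX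

end H16.LU43
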