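import Cfsg.Agent.H16.M.O73
import Cfsg.Agent.H16.MatR2
import Cfsg.Agent.H16.S
import Cfsg.Agent.H11.OmegaOrder

/-! Generated by tools/h16 (computation kit). -/

set_option maxRecDepth 100000
set_option maxHeartbeats 0

namespace H16.LO73

open Cfsg
def IxO : Ix (Unit ⊕ (Fin 3 ⊕ Fin 3)) 7 := ixS ixU (ixS (ixF 3) (ixF 3))
def MQ : Matrix (Unit ⊕ (Fin 3 ⊕ Fin 3)) (Unit ⊕ (Fin 3 ⊕ Fin 3)) (ZMod 3) := Matrix.fromBlocks 1 0 0 (Matrix.fromBlocks 0 1 0 0)
theorem hQ (v : (Unit ⊕ (Fin 3 ⊕ Fin 3)) → ZMod 3) : quadFormOdd 3 (ZMod 3) v = v ⬝ᵥ MQ.mulVec v := by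
  simp [quadFormOdd, MQ, Matrix.fromBlocks_mulVec, dotProduct, sq]
def q : MP := ⟨7, 5, 31, 3⟩
def om : (ZMod 3) := 1
abbrev GG : Type := GL (Unit ⊕ (Fin 3 ⊕ Fin 3)) (ZMod 3)
def C0 : List ℕ := [nat_lit 2, nat_lit 0x40, nat_lit 0x800, nat_lit 0x10000, nat_lit 0x200000, nat_lit 0x4000000, nat_lit 0x80000000]
def C1 : List ℕ := [nat_lit 0x4208040, nat_lit 0x40000400, nat_lit 0x2210021, nat_lit 0x2010000, nat_lit 0x2000000, nat_lit 0x2110041, nat_lit 0x82110021]
def C2 : List ℕ := [nat_lit 0x841, nat_lit 0x44000421, nat_lit 0x2108801, nat_lit 0x82008022, nat_lit 0x42108401, nat_lit 0x44008821, nat_lit 0x44210442]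
def C3 : List ℕ := [nat_lit 0x4010800, nat_lit 0x4008401, nat_lit 0x42008421, nat_lit 0x110000, nat_lit 0x2008801, nat_lit 0x100000, nat_lit 0x84010802]
def C4 : List ℕ := [nat_lit 0x44208841, nat_lit 0x2010020, nat_lit 0x42210820, nat_lit 0x80108420, nat_lit 0x40110401, nat_lit 0x4108821, nat_lit 0x42010420]
def C5 : List ℕ := [nat_lit 0x208040, nat_lit 0x42210842, nat_lit 0x42000821, nat_lit 0x4208021, nat_lit 0x84110820, nat_lit 0x42108401, nat_lit 0x8800]
def C6 : List ℕ := [nat_lit 0x40200040, nat_lit 0x42010041, nat_lit 0x80110022, nat_lit 0x2210000, nat_lit 0x2208840, nat_lit 0x42110822, nat_lit 0x4200820]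
def C7 : List ℕ := [nat_lit 0x2200400, nat_lit 0x82010441, nat_lit 0x40110420, nat_lit 0x4100402, nat_lit 0x2208441, nat_lit 0x10840, nat_lit 0x84200820]
def C8 : List ℕ := [nat_lit 0x80000801, nat_lit 0x40000440, nat_lit 0x40108822, nat_lit 0x80210841, nat_lit 0x80008422, nat_lit 0x42010440, nat_lit 0x42010420]
def C9 : List ℕ := [nat_lit 0x82000021, nat_lit 0x82000000, nat_lit 0x8400, nat_lit 0x82108441, nat_lit 0x82208820, nat_lit 0x84108421, nat_lit 0x82010820]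
def C10 : List ℕ := [nat_lit 0x4110002, nat_lit 0x80100400, nat_lit 0x42208800, nat_lit 0x44110800, nat_lit 0x2208420, nat_lit 0x110442, nat_lit 0x2100041]
def C11 : List ℕ := [nat_lit 0x10402, nat_lit 0x44108442, nat_lit 0x82008021, nat_lit 0x42200000, nat_lit 0x10820, nat_lit 0x84100420, nat_lit 0x82000821]
def C12 : List ℕ := [nat_lit 2, nat_lit 0x80100800, nat_lit 0x4108000, nat_lit 0x44108400, nat_lit 0x84108020, nat_lit 0x42008840, nat_lit 0x84210020]
def C13 : List ℕ := [nat_lit 2, nat_lit 0x42110020, nat_lit 0x84010440, nat_lit 0x40210440, nat_lit 0x8820, nat_lit 0x40200800, nat_lit 0x42010420]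
def C14 : List ℕ := [nat_lit 0x8802, nat_lit 0x40210802, nat_lit 0x400, nat_lit 0x80110421, nat_lit 0x40010842, nat_lit 0x82110022, nat_lit 0x40010402]
def C15 : List ℕ := [nat_lit 0x80108422, nat_lit 0x40200400, nat_lit 0x400, nat_lit 0x80108820, nat_lit 0x40000440, nat_lit 0x42208041, nat_lit 0x80210842]
def C16 : List ℕ := [nat_lit 0x10401, nat_lit 0x80108401, nat_lit 0x4208022, nat_lit 0x44110001, nat_lit 0x84210840, nat_lit 0x42110400, nat_lit 0x84210020]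
def C17 : List ℕ := [nat_lit 0x82200001, nat_lit 0x44110440, nat_lit 0x84010440, nat_lit 0x40210440, nat_lit 0x2008040, nat_lit 0x100442, nat_lit 0x82110841]
def C18 : List ℕ := [nat_lit 2, nat_lit 0x4210000, nat_lit 0x4210820, nat_lit 0x10000, nat_lit 0x2008040, nat_lit 0x4000000, nat_lit 0x84210020]
def C19 : List ℕ := [nat_lit 2, nat_lit 0x4210000, nat_lit 0x4210820, nat_lit 0x10000, nat_lit 0x2008040, nat_lit 0x4000000, nat_lit 0x84210020]
def C20 : List ℕ := [nat_lit 0x82200001, nat_lit 0x42000802, nat_lit 0x80110822, nat_lit 0x44108400, nat_lit 0x2010841, nat_lit 0x4010402, nat_lit 0x84210020]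
def C21 : List ℕ := [nat_lit 0x2100441, nat_lit 0x42010001, nat_lit 0x80110822, nat_lit 0x44110001, nat_lit 0x2008040, nat_lit 0x44200440, nat_lit 0x44010840]
def C22 : List ℕ := [nat_lit 0x42100840, nat_lit 0x84200402, nat_lit 0x84200022, nat_lit 0x84210422, nat_lit 0x42000841, nat_lit 0x40100841, nat_lit 0x80000000]
def C23 : List ℕ := [nat_lit 1, nat_lit 0x84210400, nat_lit 0x42208800, nat_lit 0x42210400, nat_lit 0x420, nat_lit 0x44108820, nat_lit 0x82208400]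
def C24 : List ℕ := [nat_lit 0x210040, nat_lit 0x80008821, nat_lit 0x800, nat_lit 0x80208440, nat_lit 0x80108001, nat_lit 0x44208400, nat_lit 0x40108421]
def C25 : List ℕ := [nat_lit 0x82008840, nat_lit 0x40, nat_lit 0x44010022, nat_lit 0x82000841, nat_lit 0x82208841, nat_lit 0x80008841, nat_lit 0x4010422]
def C : List (List ℕ) := [C0, C1, C2] ++ [C3, C4, C5, C6, C7, C8, C9, C10, C11, C12, C13, C14, C15, C16, C17, C18, C19, C20, C21, C22, C23, C24, C25]
def SL : List (List ℕ) := [[nat_lit 1],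
  [nat_lit 2],
  [nat_lit 3, nat_lit 3, nat_lit 2, nat_lit 2, nat_lit 1, nat_lit 1, nat_lit 1],
  [nat_lit 4, nat_lit 3, nat_lit 4, nat_lit 1, nat_lit 1, nat_lit 1],
  [nat_lit 6],
  [nat_lit 7, nat_lit 5, nat_lit 7, nat_lit 7, nat_lit 7],
  [nat_lit 8],
  [nat_lit 6, nat_lit 5, nat_lit 5, nat_lit 5, nat_lit 6],
  [nat_lit 10],
  [nat_lit 8, nat_lit 8, nat_lit 10, nat_lit 8, nat_lit 10],
  [nat_lit 12],
  [nat_lit 9, nat_lit 10, nat_lit 10, nat_lit 9],
  [nat_lit 14],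
  [nat_lit 12, nat_lit 14, nat_lit 13, nat_lit 15, nat_lit 12],
  [nat_lit 16],
  [nat_lit 14, nat_lit 14, nat_lit 17, nat_lit 15],
  [nat_lit 18],
  [nat_lit 19, nat_lit 16, nat_lit 19],
  [nat_lit 20],
  [nat_lit 20, nat_lit 19, nat_lit 13, nat_lit 13, nat_lit 21],
  [nat_lit 19, nat_lit 20, nat_lit 19, nat_lit 22, nat_lit 19, nat_lit 20, nat_lit 22, nat_lit 8, nat_lit 11, nat_lit 21, nat_lit 8],
  [nat_lit 20, nat_lit 20, nat_lit 20, nat_lit 22, nat_lit 20, nat_lit 19, nat_lit 23, nat_lit 22, nat_lit 20, nat_lit 19, nat_lit 23, nat_lit 22, nat_lit 19, nat_lit 23, nat_lit 5, nat_lit 5, nat_lit 22, nat_lit 5],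
  [nat_lit 21, nat_lit 21, nat_lit 19, nat_lit 23, nat_lit 24, nat_lit 22, nat_lit 20, nat_lit 19, nat_lit 23, nat_lit 24, nat_lit 1, nat_lit 20, nat_lit 24, nat_lit 3]]
def σ : List ℕ := [nat_lit 19, nat_lit 20, nat_lit 21, nat_lit 22, nat_lit 23, nat_lit 24, nat_lit 25]
def E : List (List ℕ) := [[],
  [],
  [],
  [],
  [],
  [],
  [],
  [],
  [],
  [],
  [],
  [],
  [],
  [],
  [],
  [],
  [],
  [],
  [],
  [],
  [],
  [],
  [],
  [],
  [],
  [],
  []]
def b0 : GG := glR (matR IxO om 1 5 C0) (matR IxO om 1 5 [nat_lit 2, nat_lit 0x40, nat_lit 0x800, nat_lit 0x10000, nat_lit 0x200000, nat_lit 0x4000000, nat_lit 0x80000000])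
  (by decide +kernel)
theorem col0 : Cols q (rhoGL _ _) (eR IxO om) ⊥ b0 C0 := cols_R (s := 1) IxO om rfl (by decide +kernel)
def b1 : GG := glR (matR IxO om 1 5 C1) (matR IxO om 1 5 [nat_lit 0x4010800, nat_lit 0x4008401, nat_lit 0x42008421, nat_lit 0x110000, nat_lit 0x2008801, nat_lit 0x100000, nat_lit 0x84010802])
  (by decide +kernel)
theorem col1 : Cols q (rhoGL _ _) (eR IxO om) ⊥ b1 C1 := cols_R (s := 1) IxO om rfl (by decide +kernel)
def b2 : GG := glR (matR IxO om 1 5 C2) (matR IxO om 1 5 [nat_lit 0x44208841, nat_lit 0x2010020, nat_lit 0x42210820, nat_lit 0x80108420, nat_lit 0x40110401, nat_lit 0x4108821, nat_lit 0x42010420])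
  (by decide +kernel)
theorem col2 : Cols q (rhoGL _ _) (eR IxO om) ⊥ b2 C2 := cols_R (s := 1) IxO om rfl (by decide +kernel)

theorem slpe_a : allZ2 (slpEnt (nat_lit 7) (nat_lit 5) (nat_lit 31) (nat_lit 3) C (nat_lit 3) SL) (nat_lit 23) (nat_lit 7) = true := by decide +kernel
theorem rele_a : allZ2 (relEnt (nat_lit 7) (nat_lit 5) (nat_lit 31) (nat_lit 3) C (nat_lit 26) σ O73.Rl E) (nat_lit 27) (nat_lit 7) = true := by decide +kernel
theorem misc : q.OK ∧ SL.length = 23 ∧ O73.Rl.length = 27 ∧ allL (ltAll 1) E = true := by decide +kernel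

theorem slpe : ∀ k < 23, ∀ i < 7, (slpEnt (nat_lit 7) (nat_lit 5) (nat_lit 31) (nat_lit 3) C (nat_lit 3) SL) k i = 0 := allZ2_sound slpe_a
theorem rele : ∀ k < 27, ∀ i < 7, (relEnt (nat_lit 7) (nat_lit 5) (nat_lit 31) (nat_lit 3) C (nat_lit 26) σ O73.Rl E) k i = 0 := allZ2_sound rele_a
def o : List GG := [b0, b1, b2]
theorem amb : Amb q (rhoGL _ _) (eR IxO om) ⊥ := amb_GL misc.1 (by decide +kernel)
noncomputable def hs : ℕ → GG := slpG SL (tup o) o.length
theorem mact : MAct q (rhoGL _ _) (eR IxO om) ⊥ hs C 26 :=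
  (mact_tup (.cons col0 (.cons col1 (.cons col2 .nil)))).slp amb (misc.2.1 ▸ slpe)
/-- the letters of the model as matrices -/
noncomputable def h : ℕ → GG := fun k => hs (nth 0 σ k)
theorem h_mem {A : Subgroup GG} (hA : ∀ a ∈ o, a ∈ A) (k : ℕ) : h k ∈ A := lnk_mem hA SL σ k
theorem rels_of {Q : Type*} [Group Q] (π : GG →* Q) (hz : π b0 = 1) : Rels (fun k => π (h k)) O73.Rl :=
  mact.rels_z amb (rigid_R _ _) (by decide) misc.2.2 rele π ((congrArg π (slpG_zero SL b0 _)).trans hz)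
theorem word_eq {W : List ℕ} {M : Matrix (Unit ⊕ (Fin 3 ⊕ Fin 3)) (Unit ⊕ (Fin 3 ⊕ Fin 3)) (ZMod 3)} (hc : ltAll 26 (W.map (nth 0 σ)) = 0 ∧ ∀ j,
    ∀ x ∈ [apM q.w q.m q.p C (W.map (nth 0 σ)) (unitV q.w ((IxO).idx j))], ∀ i,
      M i j = valR om 7 1 q.w x ((IxO).idx i)) : ((evA h W : GG) : Matrix (Unit ⊕ (Fin 3 ⊕ Fin 3)) (Unit ⊕ (Fin 3 ⊕ Fin 3)) (ZMod 3)) = M := by
  have := eq_word (s := 1) amb rfl (by decide) mact hc
  rwa [evA_map] at this
theorem ne : h 1 * h 0 ≠ h 0 * h 1 := fun e => by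
  have h1 := word_eq (W := [0, 1]) (M := matR IxO om 1 5 [nat_lit 0x44100002, nat_lit 0x82208820, nat_lit 0x44110800, nat_lit 0x82210800, nat_lit 0x100000, nat_lit 0x2008801, nat_lit 0x40010402]) (by decide +kernel)
  have h2 := word_eq (W := [1, 0]) (M := matR IxO om 1 5 [nat_lit 0x44100002, nat_lit 0x84000401, nat_lit 0x44100401, nat_lit 0x80108820, nat_lit 0x2200442, nat_lit 0x200821, nat_lit 0x40000000]) (by decide +kernel)
  simp only [evA_cons, evA_nil, one_mul] at h1 h2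
  exact absurd (h1.symm.trans ((congrArg Units.val e).trans h2)) (by decide +kernel)
theorem b0_cen : b0 ∈ Subgroup.center GG := center_of_scalar (c := 2) (by decide +kernel)
theorem m2 : b2 ∈ isometryGroup (ZMod 3) (quadFormOdd 3 (ZMod 3)) := mem_isom hQ (by decide +kernel)
theorem m1 : b1 ∈ isometryGroup (ZMod 3) (quadFormOdd 3 (ZMod 3)) := mem_isom hQ (by decide +kernel)
theorem m0 : b0 ∈ isometryGroup (ZMod 3) (quadFormOdd 3 (ZMod 3)) := mem_isom hQ (by decide +kernel)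
theorem mem : ∀ k, h k ∈ isometryGroup (ZMod 3) (quadFormOdd 3 (ZMod 3)) := h_mem (all_cons m0 (all_cons m1 (all_cons m2 all_nil)))
theorem cardX : Nat.card (POmega (ZMod 3) (quadFormOdd 3 (ZMod 3))) = 4585351680 := by
  have := H11.card_pomegaOdd (F := ZMod 3) (by decide) (m := 3) (by norm_num)
  simp [Finset.prod_range_succ] at this
  omega
theorem equiv : Nonempty (gen O73.g 7 ≃* POmega (ZMod 3) (quadFormOdd 3 (ZMod 3))) :=
  have := O73.simple
  link_pomega O73.bound O73.rels O73.card (by norm_num) (by decide) (rels_of _ ((QuotientGroup.eq_one_iff _).2 b0_cen)) ne mem cardX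

end H16.LO73
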