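import Cfsg.Agent.H16.M.O82
import Cfsg.Agent.H16.MatR2
import Cfsg.Agent.H16.S
import Cfsg.Agent.H11.OmegaOrder

/-! Generated by tools/h16 (computation kit). -/

set_option maxRecDepth 100000
set_option maxHeartbeats 0

namespace H16.LO82

open Cfsg
def IxO : Ix (Fin 4 ⊕ Fin 4) 8 := ixS (ixF 4) (ixF 4)
def MQ : Matrix (Fin 4 ⊕ Fin 4) (Fin 4 ⊕ Fin 4) (ZMod 2) := Matrix.fromBlocks 0 1 0 0
theorem hQ (v : (Fin 4 ⊕ Fin 4) → ZMod 2) : quadFormPlus 4 (ZMod 2) v = v ⬝ᵥ MQ.mulVec v := by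
  simp [quadFormPlus, MQ, Matrix.fromBlocks_mulVec, dotProduct]
def q : MP := ⟨8, 4, 15, 2⟩
def om : (ZMod 2) := 1
abbrev GG : Type := GL (Fin 4 ⊕ Fin 4) (ZMod 2)
def C0 : List ℕ := [nat_lit 1, nat_lit 0x10, nat_lit 0x100, nat_lit 0x1000, nat_lit 0x10000, nat_lit 0x100000, nat_lit 0x1000000, nat_lit 0x10000000]
def C1 : List ℕ := [nat_lit 0x1111000, nat_lit 0x1101, nat_lit 0x10111001, nat_lit 0x10111010, nat_lit 0x100, nat_lit 0x111011, nat_lit 0x10011111, nat_lit 0x10010100]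
def C2 : List ℕ := [nat_lit 0x1001001, nat_lit 0x1111110, nat_lit 0x11111010, nat_lit 0x1101000, nat_lit 0x10010100, nat_lit 0x1001, nat_lit 0x101001, nat_lit 0x10110000]
def C3 : List ℕ := [nat_lit 0x11011110, nat_lit 0x11010010, nat_lit 0x10000, nat_lit 0x11001100, nat_lit 0x1100110, nat_lit 0x10000110, nat_lit 0x101101, nat_lit 0x11110110]
def C4 : List ℕ := [nat_lit 0x1101001, nat_lit 0x11101100, nat_lit 0x11110000, nat_lit 0x1001001, nat_lit 0x10110, nat_lit 0x1100000, nat_lit 0x100001, nat_lit 0x11110110]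
def C5 : List ℕ := [nat_lit 0x1100110, nat_lit 0x1010101, nat_lit 0x10110011, nat_lit 0x100101, nat_lit 0x10111110, nat_lit 0x10011111, nat_lit 0x11110, nat_lit 0x11100001]
def C6 : List ℕ := [nat_lit 0x1100111, nat_lit 0x11011001, nat_lit 0x111000, nat_lit 0x1001011, nat_lit 0x11101010, nat_lit 0x1010111, nat_lit 0x10110111, nat_lit 0x111]
def C7 : List ℕ := [nat_lit 0x1110101, nat_lit 0x1110110, nat_lit 0x1011, nat_lit 0x1000010, nat_lit 0x10101111, nat_lit 0x10101110, nat_lit 0x11000001, nat_lit 0x1110]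
def C8 : List ℕ := [nat_lit 0x110000, nat_lit 0x110011, nat_lit 0x10110100, nat_lit 0x111, nat_lit 0x1010101, nat_lit 0x11101011, nat_lit 0x111011, nat_lit 0x1001011]
def C9 : List ℕ := [nat_lit 0x100001, nat_lit 0x10111110, nat_lit 0x11010, nat_lit 0x1001000, nat_lit 0x10101110, nat_lit 0x110011, nat_lit 0x10010110, nat_lit 0x100]
def C10 : List ℕ := [nat_lit 0x1100110, nat_lit 0x110011, nat_lit 0x10000000, nat_lit 0x100101, nat_lit 0x10010, nat_lit 0x1100111, nat_lit 0x101101, nat_lit 0x11100001]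
def C11 : List ℕ := [nat_lit 0x10111110, nat_lit 0x11011001, nat_lit 0x101100, nat_lit 0x10101010, nat_lit 0x10101111, nat_lit 0x10101110, nat_lit 0x1110, nat_lit 0x1101110]
def C12 : List ℕ := [nat_lit 1, nat_lit 0x1100110, nat_lit 0x1111, nat_lit 0x10100101, nat_lit 0x110011, nat_lit 0x10101110, nat_lit 0x11100110, nat_lit 0x1100001]
def C13 : List ℕ := [nat_lit 1, nat_lit 0x10101111, nat_lit 0x101100, nat_lit 0x10000110, nat_lit 0x11011001, nat_lit 0x1100111, nat_lit 0x11100110, nat_lit 0x1000010]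
def C14 : List ℕ := [nat_lit 0x10000, nat_lit 0x10, nat_lit 0x11011100, nat_lit 0x11010000, nat_lit 0x11011001, nat_lit 0x100000, nat_lit 0x1000000, nat_lit 0x1011000]
def C15 : List ℕ := [nat_lit 0x11011001, nat_lit 0x10, nat_lit 0x11001101, nat_lit 0x11000001, nat_lit 1, nat_lit 0x100000, nat_lit 0x1000000, nat_lit 0x1001001]
def C16 : List ℕ := [nat_lit 0x10000, nat_lit 0x10, nat_lit 0x11011100, nat_lit 0x11010000, nat_lit 0x11011001, nat_lit 0x100000, nat_lit 0x1000000, nat_lit 0x1011000]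
def C17 : List ℕ := [nat_lit 0x10011101, nat_lit 0x10, nat_lit 0x11000010, nat_lit 0x1010010, nat_lit 0x10010, nat_lit 0x11101011, nat_lit 0x11000, nat_lit 0x11110]
def C18 : List ℕ := [nat_lit 1, nat_lit 0x100000, nat_lit 0x1001001, nat_lit 0x1001, nat_lit 0x11011001, nat_lit 0x10, nat_lit 0x1100, nat_lit 0x11001101]
def C19 : List ℕ := [nat_lit 1, nat_lit 0x10, nat_lit 0x10000000, nat_lit 0x11000000, nat_lit 0x10000, nat_lit 0x100000, nat_lit 0x1100, nat_lit 0x100]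
def C20 : List ℕ := [nat_lit 1, nat_lit 0x10, nat_lit 0x100, nat_lit 0x1010, nat_lit 0x10000, nat_lit 0x10100100, nat_lit 0x1000010, nat_lit 0x10000000]
def C : List (List ℕ) := [C0, C1, C2] ++ [C3, C4, C5, C6, C7, C8, C9, C10, C11, C12, C13, C14, C15, C16, C17, C18, C19, C20]
def SL : List (List ℕ) := [[nat_lit 1],
  [nat_lit 2],
  [nat_lit 4, nat_lit 4, nat_lit 4, nat_lit 3, nat_lit 2, nat_lit 1, nat_lit 2, nat_lit 2, nat_lit 3],
  [nat_lit 5],
  [nat_lit 2, nat_lit 3, nat_lit 2, nat_lit 2, nat_lit 3, nat_lit 3, nat_lit 4, nat_lit 4, nat_lit 3],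
  [nat_lit 7],
  [nat_lit 6, nat_lit 8, nat_lit 5, nat_lit 5, nat_lit 5, nat_lit 8, nat_lit 6],
  [nat_lit 9],
  [nat_lit 7, nat_lit 6, nat_lit 7, nat_lit 6, nat_lit 6, nat_lit 8, nat_lit 8],
  [nat_lit 6, nat_lit 7, nat_lit 6, nat_lit 6],
  [nat_lit 12],
  [nat_lit 13, nat_lit 10, nat_lit 13, nat_lit 11],
  [nat_lit 14],
  [nat_lit 15],
  [nat_lit 9, nat_lit 16, nat_lit 12],
  [nat_lit 11, nat_lit 9, nat_lit 11, nat_lit 16, nat_lit 17],
  [nat_lit 17, nat_lit 15, nat_lit 17, nat_lit 18, nat_lit 7, nat_lit 16, nat_lit 8],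
  [nat_lit 15, nat_lit 17, nat_lit 19, nat_lit 17, nat_lit 16, nat_lit 19, nat_lit 17, nat_lit 15, nat_lit 19, nat_lit 17, nat_lit 15, nat_lit 19, nat_lit 17, nat_lit 18, nat_lit 19, nat_lit 1, nat_lit 4, nat_lit 17, nat_lit 15, nat_lit 4]]
def σ : List ℕ := [nat_lit 15, nat_lit 16, nat_lit 17, nat_lit 18, nat_lit 19, nat_lit 20]
def E : List (List ℕ) := [[],
  [],
  [],
  [],
  [],
  [],
  [],
  [],
  [],
  [],
  [],
  [],
  [],
  [],
  [],
  [],
  [],
  [],
  []]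
def b0 : GG := glR (matR IxO om 1 4 C0) (matR IxO om 1 4 [nat_lit 1, nat_lit 0x10, nat_lit 0x100, nat_lit 0x1000, nat_lit 0x10000, nat_lit 0x100000, nat_lit 0x1000000, nat_lit 0x10000000])
  (by decide +kernel)
theorem col0 : Cols q (rhoGL _ _) (eR IxO om) ⊥ b0 C0 := cols_R (s := 1) IxO om rfl (by decide +kernel)
def b1 : GG := glR (matR IxO om 1 4 C1) (matR IxO om 1 4 [nat_lit 0x11011110, nat_lit 0x11010010, nat_lit 0x10000, nat_lit 0x11001100, nat_lit 0x1100110, nat_lit 0x10000110, nat_lit 0x101101, nat_lit 0x11110110])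
  (by decide +kernel)
theorem col1 : Cols q (rhoGL _ _) (eR IxO om) ⊥ b1 C1 := cols_R (s := 1) IxO om rfl (by decide +kernel)
def b2 : GG := glR (matR IxO om 1 4 C2) (matR IxO om 1 4 [nat_lit 0x1101001, nat_lit 0x11101100, nat_lit 0x11110000, nat_lit 0x1001001, nat_lit 0x10110, nat_lit 0x1100000, nat_lit 0x100001, nat_lit 0x11110110])
  (by decide +kernel)
theorem col2 : Cols q (rhoGL _ _) (eR IxO om) ⊥ b2 C2 := cols_R (s := 1) IxO om rfl (by decide +kernel)

theorem slpe_a : allZ2 (slpEnt (nat_lit 8) (nat_lit 4) (nat_lit 15) (nat_lit 2) C (nat_lit 3) SL) (nat_lit 18) (nat_lit 8) = true := by decide +kernel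
theorem rele_a : allZ2 (relEnt (nat_lit 8) (nat_lit 4) (nat_lit 15) (nat_lit 2) C (nat_lit 21) σ O82.Rl E) (nat_lit 19) (nat_lit 8) = true := by decide +kernel
theorem misc : q.OK ∧ SL.length = 18 ∧ O82.Rl.length = 19 ∧ allL (ltAll 1) E = true := by decide +kernel

theorem slpe : ∀ k < 18, ∀ i < 8, (slpEnt (nat_lit 8) (nat_lit 4) (nat_lit 15) (nat_lit 2) C (nat_lit 3) SL) k i = 0 := allZ2_sound slpe_a
theorem rele : ∀ k < 19, ∀ i < 8, (relEnt (nat_lit 8) (nat_lit 4) (nat_lit 15) (nat_lit 2) C (nat_lit 21) σ O82.Rl E) k i = 0 := allZ2_sound rele_a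
def o : List GG := [b0, b1, b2]
theorem amb : Amb q (rhoGL _ _) (eR IxO om) ⊥ := amb_GL misc.1 (by decide +kernel)
noncomputable def hs : ℕ → GG := slpG SL (tup o) o.length
theorem mact : MAct q (rhoGL _ _) (eR IxO om) ⊥ hs C 21 :=
  (mact_tup (.cons col0 (.cons col1 (.cons col2 .nil)))).slp amb (misc.2.1 ▸ slpe)
/-- the letters of the model as matrices -/
noncomputable def h : ℕ → GG := fun k => hs (nth 0 σ k)
theorem h_mem {A : Subgroup GG} (hA : ∀ a ∈ o, a ∈ A) (k : ℕ) : h k ∈ A := lnk_mem hA SL σ k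
theorem rels_of {Q : Type*} [Group Q] (π : GG →* Q) (hz : π b0 = 1) : Rels (fun k => π (h k)) O82.Rl :=
  mact.rels_z amb (rigid_R _ _) (by decide) misc.2.2 rele π ((congrArg π (slpG_zero SL b0 _)).trans hz)
theorem word_eq {W : List ℕ} {M : Matrix (Fin 4 ⊕ Fin 4) (Fin 4 ⊕ Fin 4) (ZMod 2)} (hc : ltAll 21 (W.map (nth 0 σ)) = 0 ∧ ∀ j,
    ∀ x ∈ [apM q.w q.m q.p C (W.map (nth 0 σ)) (unitV q.w ((IxO).idx j))], ∀ i,
      M i j = valR om 8 1 q.w x ((IxO).idx i)) : ((evA h W : GG) : Matrix (Fin 4 ⊕ Fin 4) (Fin 4 ⊕ Fin 4) (ZMod 2)) = M := by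
  have := eq_word (s := 1) amb rfl (by decide) mact hc
  rwa [evA_map] at this
theorem ne : h 2 * h 0 ≠ h 0 * h 2 := fun e => by
  have h1 := word_eq (W := [0, 2]) (M := matR IxO om 1 4 [nat_lit 0x11011011, nat_lit 0x10, nat_lit 0x1011, nat_lit 0x10011011, nat_lit 0x10011101, nat_lit 0x11101011, nat_lit 0x11000, nat_lit 0x11010111]) (by decide +kernel)
  have h2 := word_eq (W := [2, 0]) (M := matR IxO om 1 4 [nat_lit 0x10011101, nat_lit 0x10, nat_lit 0x1011, nat_lit 0x1000011, nat_lit 0x11, nat_lit 0x110011, nat_lit 0x11000000, nat_lit 0x1111]) (by decide +kernel)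
  simp only [evA_cons, evA_nil, one_mul] at h1 h2
  exact absurd (h1.symm.trans ((congrArg Units.val e).trans h2)) (by decide +kernel)
theorem b0_cen : b0 ∈ Subgroup.center GG := center_of_scalar (c := 1) (by decide +kernel)
theorem b0_eq : b0 = 1 := Units.ext (by decide +kernel)
theorem rels : Rels h O82.Rl := rels_id (rels_of _) b0_eq
theorem m2 : b2 ∈ isometryGroup (ZMod 2) (quadFormPlus 4 (ZMod 2)) := mem_isom hQ (by decide +kernel)
theorem m1 : b1 ∈ isometryGroup (ZMod 2) (quadFormPlus 4 (ZMod 2)) := mem_isom hQ (by decide +kernel)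
theorem m0 : b0 ∈ isometryGroup (ZMod 2) (quadFormPlus 4 (ZMod 2)) := mem_isom hQ (by decide +kernel)
theorem mem : ∀ k, h k ∈ isometryGroup (ZMod 2) (quadFormPlus 4 (ZMod 2)) := h_mem (all_cons m0 (all_cons m1 (all_cons m2 all_nil)))
theorem cardX : Nat.card (POmega (ZMod 2) (quadFormPlus 4 (ZMod 2))) = 174182400 := by
  have := H11.card_pomegaPlus (F := ZMod 2) (m := 3) (by norm_num) (by norm_num)
  simpa [Finset.prod_range_succ] using this
theorem equiv : Nonempty (gen O82.g 6 ≃* POmega (ZMod 2) (quadFormPlus 4 (ZMod 2))) :=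
  have := O82.simple
  link_pomega O82.bound O82.rels O82.card (by norm_num) (by decide) (rels_of _ ((QuotientGroup.eq_one_iff _).2 b0_cen)) ne mem cardX

end H16.LO82
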