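import Cfsg.Agent.H16.M.S44
import Cfsg.Agent.H16.MatR2
import Cfsg.Agent.H16.S

/-! Generated by tools/h16 (computation kit). -/

set_option maxRecDepth 100000
set_option maxHeartbeats 0

namespace H16.LS44

open Cfsg
def IS : Ix (Fin 2 ⊕ Fin 2) 4 := ixS (ixF 2) (ixF 2)
def q : MP := ⟨8, 4, 15, 2⟩
def om : H11.F4 := ⟨0, 1⟩
abbrev GG : Type := GL (Fin 2 ⊕ Fin 2) H11.F4
def C0 : List ℕ := [nat_lit 1, nat_lit 0x10, nat_lit 0x100, nat_lit 0x1000, nat_lit 0x10000, nat_lit 0x100000, nat_lit 0x1000000, nat_lit 0x10000000]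
def C1 : List ℕ := [nat_lit 0x1111110, nat_lit 0x10110011, nat_lit 0x10000111, nat_lit 0x100011, nat_lit 0x10010111, nat_lit 0x10001011, nat_lit 0x11111000, nat_lit 0x10010]
def C2 : List ℕ := [nat_lit 0x11010111, nat_lit 0x10111011, nat_lit 0x10111101, nat_lit 0x10011010, nat_lit 0x10101101, nat_lit 0x1011, nat_lit 0x1101011, nat_lit 0x111001]
def C3 : List ℕ := [nat_lit 0x1000101, nat_lit 0x10010100, nat_lit 0x11001011, nat_lit 0x11101111, nat_lit 0x10100, nat_lit 0x11011001, nat_lit 0x1111100, nat_lit 0x11110]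
def C4 : List ℕ := [nat_lit 0x1000101, nat_lit 0x11111011, nat_lit 0x11111101, nat_lit 0x10011110, nat_lit 0x10100, nat_lit 0x1001111, nat_lit 0x101111, nat_lit 0x1111001]
def C5 : List ℕ := [nat_lit 0x10001, nat_lit 0x111011, nat_lit 0x1000010, nat_lit 0x111001, nat_lit 1, nat_lit 0x10000011, nat_lit 0x1100100, nat_lit 0x10100011]
def C6 : List ℕ := [nat_lit 0x10000, nat_lit 0x1010, nat_lit 0x11101110, nat_lit 0x10101001, nat_lit 0x10001, nat_lit 0x10100000, nat_lit 0x1110, nat_lit 0x111010]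
def C7 : List ℕ := [nat_lit 1, nat_lit 0x101001, nat_lit 0x10100100, nat_lit 0x10010, nat_lit 0x10000, nat_lit 0x10110010, nat_lit 0x11101010, nat_lit 0x110001]
def C8 : List ℕ := [nat_lit 1, nat_lit 0x11000, nat_lit 0x101100, nat_lit 0x10010010, nat_lit 0x10000, nat_lit 0x10010001, nat_lit 0x11100010, nat_lit 0x10111001]
def C9 : List ℕ := [nat_lit 0x10001, nat_lit 0x111000, nat_lit 0x11111000, nat_lit 0x10011001, nat_lit 1, nat_lit 0x10110011, nat_lit 0x1111111, nat_lit 0x1001]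
def C10 : List ℕ := [nat_lit 0x10000, nat_lit 0x111011, nat_lit 0x11110110, nat_lit 0x10010000, nat_lit 0x10001, nat_lit 0x10000011, nat_lit 0x10011111, nat_lit 0x10011001]
def C11 : List ℕ := [nat_lit 0x10001, nat_lit 0x10010001, nat_lit 0x11101011, nat_lit 0x111011, nat_lit 1, nat_lit 0x10001001, nat_lit 0x1011110, nat_lit 0x10000011]
def C12 : List ℕ := [nat_lit 0x10000, nat_lit 0x10010011, nat_lit 0x11101111, nat_lit 0x110011, nat_lit 0x10001, nat_lit 0x10101001, nat_lit 0x11110, nat_lit 0x11]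
def C13 : List ℕ := [nat_lit 0x10000, nat_lit 0x111001, nat_lit 0x11101110, nat_lit 0x10011001, nat_lit 0x10001, nat_lit 0x10100011, nat_lit 0x1110, nat_lit 0x1001]
def C14 : List ℕ := [nat_lit 0x10001, nat_lit 0x111011, nat_lit 0x11101010, nat_lit 0x10010001, nat_lit 1, nat_lit 0x10000011, nat_lit 0x1001110, nat_lit 0x10001001]
def C15 : List ℕ := [nat_lit 1, nat_lit 0x1000, nat_lit 0x100, nat_lit 0x10, nat_lit 0x10000, nat_lit 0x10000000, nat_lit 0x1000000, nat_lit 0x100000]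
def C16 : List ℕ := [nat_lit 0x10001, nat_lit 0x110001, nat_lit 0x11101010, nat_lit 0x10011011, nat_lit 1, nat_lit 0x100011, nat_lit 0x1001110, nat_lit 0x101001]
def C17 : List ℕ := [nat_lit 0x10000, nat_lit 0x110011, nat_lit 0x11101110, nat_lit 0x10010011, nat_lit 0x10001, nat_lit 0x11, nat_lit 0x1110, nat_lit 0x10101001]
def C18 : List ℕ := [nat_lit 1, nat_lit 0x1000, nat_lit 0x100, nat_lit 0x10, nat_lit 0x10000, nat_lit 0x10000000, nat_lit 0x1000000, nat_lit 0x100000]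
def C19 : List ℕ := [nat_lit 0x10000, nat_lit 0x100000, nat_lit 0x1000110, nat_lit 0x10001011, nat_lit 0x10001, nat_lit 0x100010, nat_lit 0x100100, nat_lit 0x111000]
def C20 : List ℕ := [nat_lit 0x10001, nat_lit 0x100010, nat_lit 0x1000010, nat_lit 0x10000011, nat_lit 1, nat_lit 0x10, nat_lit 0x1100100, nat_lit 0x10111000]
def C21 : List ℕ := [nat_lit 1, nat_lit 0x10, nat_lit 0x110101, nat_lit 0x11010, nat_lit 0x10000, nat_lit 0x100000, nat_lit 0x1100011, nat_lit 0x10110001]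
def C22 : List ℕ := [nat_lit 0x10011, nat_lit 0x110011, nat_lit 0x11101110, nat_lit 0x10011101, nat_lit 0x100001, nat_lit 0x11, nat_lit 0x1110, nat_lit 0x1001001]
def C : List (List ℕ) := [C0, C1, C2] ++ [C3, C4, C5, C6, C7, C8, C9, C10, C11, C12, C13, C14, C15, C16, C17, C18, C19, C20, C21, C22]
def SL : List (List ℕ) := [[nat_lit 1],
  [nat_lit 2],
  [nat_lit 3, nat_lit 4, nat_lit 3],
  [nat_lit 5],
  [nat_lit 4, nat_lit 1],
  [nat_lit 7],
  [nat_lit 6, nat_lit 7],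
  [nat_lit 9],
  [nat_lit 7, nat_lit 5, nat_lit 7, nat_lit 5, nat_lit 8],
  [nat_lit 11],
  [nat_lit 12, nat_lit 10, nat_lit 12, nat_lit 9],
  [nat_lit 13],
  [nat_lit 12, nat_lit 10, nat_lit 10, nat_lit 11, nat_lit 10],
  [nat_lit 14, nat_lit 15, nat_lit 14],
  [nat_lit 16],
  [nat_lit 15],
  [nat_lit 17, nat_lit 18, nat_lit 16, nat_lit 12, nat_lit 9, nat_lit 11],
  [nat_lit 19],
  [nat_lit 18, nat_lit 20, nat_lit 18, nat_lit 16, nat_lit 5, nat_lit 18],
  [nat_lit 19, nat_lit 18, nat_lit 19, nat_lit 18, nat_lit 21, nat_lit 20, nat_lit 18, nat_lit 17, nat_lit 1, nat_lit 17, nat_lit 1, nat_lit 4]]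
def σ : List ℕ := [nat_lit 16, nat_lit 17, nat_lit 18, nat_lit 19, nat_lit 20, nat_lit 21, nat_lit 22]
def E : List (List ℕ) := [[],
  [],
  [],
  [],
  [],
  [],
  [],
  [],
  [],
  [],
  [],
  [],
  [],
  [],
  [],
  [],
  [],
  [],
  [],
  []]
def b0 : GG := glR (matR IS om 2 4 C0) (matR IS om 2 4 [nat_lit 1, nat_lit 0x10, nat_lit 0x100, nat_lit 0x1000])
  (by decide +kernel)
theorem col0 : Cols q (rhoGL _ _) (eR IS om) ⊥ b0 C0 := cols_R (s := 2) IS om rfl (by decide +kernel)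
def b1 : GG := glR (matR IS om 2 4 C1) (matR IS om 2 4 [nat_lit 0x1000101, nat_lit 0x10010100, nat_lit 0x11001011, nat_lit 0x11101111])
  (by decide +kernel)
theorem col1 : Cols q (rhoGL _ _) (eR IS om) ⊥ b1 C1 := cols_R (s := 2) IS om rfl (by decide +kernel)
def b2 : GG := glR (matR IS om 2 4 C2) (matR IS om 2 4 [nat_lit 0x1000101, nat_lit 0x11111011, nat_lit 0x11111101, nat_lit 0x10011110])
  (by decide +kernel)
theorem col2 : Cols q (rhoGL _ _) (eR IS om) ⊥ b2 C2 := cols_R (s := 2) IS om rfl (by decide +kernel)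

theorem slpe_a : allZ2 (slpEnt (nat_lit 8) (nat_lit 4) (nat_lit 15) (nat_lit 2) C (nat_lit 3) SL) (nat_lit 20) (nat_lit 8) = true := by decide +kernel
theorem rele_a : allZ2 (relEnt (nat_lit 8) (nat_lit 4) (nat_lit 15) (nat_lit 2) C (nat_lit 23) σ S44.Rl E) (nat_lit 20) (nat_lit 4) = true := by decide +kernel
theorem misc : q.OK ∧ SL.length = 20 ∧ S44.Rl.length = 20 ∧ allL (ltAll 1) E = true := by decide +kernel

theorem slpe : ∀ k < 20, ∀ i < 8, (slpEnt (nat_lit 8) (nat_lit 4) (nat_lit 15) (nat_lit 2) C (nat_lit 3) SL) k i = 0 := allZ2_sound slpe_a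
theorem rele : ∀ k < 20, ∀ i < 4, (relEnt (nat_lit 8) (nat_lit 4) (nat_lit 15) (nat_lit 2) C (nat_lit 23) σ S44.Rl E) k i = 0 := allZ2_sound rele_a
noncomputable def o : List GG := [b0, b1, b2]
theorem amb : Amb q (rhoGL _ _) (eR IS om) ⊥ := amb_GL misc.1 (by decide +kernel)
noncomputable def hs : ℕ → GG := slpG SL (tup o) o.length
theorem mact : MAct q (rhoGL _ _) (eR IS om) ⊥ hs C 23 :=
  (mact_tup (.cons col0 (.cons col1 (.cons col2 .nil)))).slp amb (misc.2.1 ▸ slpe)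
/-- the letters of the model as matrices -/
noncomputable def h : ℕ → GG := fun k => hs (nth 0 σ k)
theorem h_mem {A : Subgroup GG} (hA : ∀ a ∈ o, a ∈ A) (k : ℕ) : h k ∈ A := lnk_mem hA SL σ k
theorem rels_of {Q : Type*} [Group Q] (π : GG →* Q) (hz : π b0 = 1) : Rels (fun k => π (h k)) S44.Rl :=
  mact.rels_z amb (rigid_R _ _) (by decide) misc.2.2 rele π ((congrArg π (slpG_zero SL b0 _)).trans hz)
theorem word_eq {W : List ℕ} {M : Matrix (Fin 2 ⊕ Fin 2) (Fin 2 ⊕ Fin 2) H11.F4} (hc : ltAll 23 (W.map (nth 0 σ)) = 0 ∧ ∀ j,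
    ∀ x ∈ [apM q.w q.m q.p C (W.map (nth 0 σ)) (unitV q.w ((IS).idx j))], ∀ i,
      M i j = valR om 4 2 q.w x ((IS).idx i)) : ((evA h W : GG) : Matrix (Fin 2 ⊕ Fin 2) (Fin 2 ⊕ Fin 2) H11.F4) = M := by
  have := eq_word (s := 2) amb rfl (by decide) mact hc
  rwa [evA_map] at this
theorem ne : h 2 * h 0 ≠ h 0 * h 2 := fun e => by
  have h1 := word_eq (W := [0, 2]) (M := matR IS om 2 4 [nat_lit 0x10001, nat_lit 0x10010001, nat_lit 0x11101010, nat_lit 0x111011, nat_lit 1, nat_lit 0x10001001, nat_lit 0x1001110, nat_lit 0x10000011]) (by decide +kernel)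
  have h2 := word_eq (W := [2, 0]) (M := matR IS om 2 4 [nat_lit 0x10001, nat_lit 0x10011011, nat_lit 0x11101010, nat_lit 0x110001, nat_lit 1, nat_lit 0x101001, nat_lit 0x1001110, nat_lit 0x100011]) (by decide +kernel)
  simp only [evA_cons, evA_nil, one_mul] at h1 h2
  exact absurd (h1.symm.trans ((congrArg Units.val e).trans h2)) (by decide +kernel)
theorem b0_cen : b0 ∈ Subgroup.center GG := center_of_scalar (c := ⟨1, 0⟩) (by decide +kernel)
theorem b0_eq : b0 = 1 := Units.ext (by decide +kernel)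
theorem rels : Rels h S44.Rl := rels_id (rels_of _) b0_eq
theorem m2 : b2 ∈ (spGL 2 H11.F4).range := mem_spGL (by decide +kernel)
theorem m1 : b1 ∈ (spGL 2 H11.F4).range := mem_spGL (by decide +kernel)
theorem m0 : b0 ∈ (spGL 2 H11.F4).range := mem_spGL (by decide +kernel)
theorem mem : ∀ k, h k ∈ (spGL 2 H11.F4).range := h_mem (all_cons m0 (all_cons m1 (all_cons m2 all_nil)))
theorem inj : Function.Injective (spGL 2 H11.F4) := fun _ _ e => Subtype.ext (congrArg Units.val e)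
theorem cardX : Nat.card (spGL 2 H11.F4).range = 979200 := by
  rw [← Nat.card_congr (MonoidHom.ofInjective inj).toEquiv, H11.card_sp, show Fintype.card H11.F4 = 4 from rfl]
  simp [Finset.prod_range_succ]
theorem equiv : Nonempty (gen S44.g 7 ≃* Matrix.symplecticGroup (Fin 2) H11.F4) :=
  have := S44.simple
  have ⟨h1, e, _⟩ := link_sub S44.bound S44.rels S44.card rels (by decide) ne mem cardX (by norm_num)
  ⟨(e.trans (MulEquiv.subgroupCongr h1)).trans (MonoidHom.ofInjective inj).symm⟩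

end H16.LS44
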