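import Cfsg.Agent.H16.M.U311
import Cfsg.Agent.H16.MatR2
import Cfsg.Agent.H16.S

/-! Generated by tools/h16 (computation kit). -/

set_option maxRecDepth 100000
set_option maxHeartbeats 0

namespace H16.LU311

open Cfsg
instance fact11 : Fact (Nat.Prime 11) := ⟨by norm_num⟩
instance factF121 : Fact (∀ r : ZMod 11, r ^ 2 ≠ 10 + 0 * r) := ⟨by decide⟩
abbrev F121 : Type := QuadraticAlgebra (ZMod 11) 10 0
theorem card_F121 : Fintype.card F121 = 11 ^ 2 := rfl
def q : MP := ⟨6, 10, 1023, 11⟩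
def om : F121 := ⟨0, 1⟩
abbrev GG : Type := GL (Fin 3) F121
def C0 : List ℕ := [nat_lit 0xc0000005, nat_lit 0x30000001400, nat_lit 0xc000000500000, nat_lit 0x140000008, nat_lit 0x50000002000, nat_lit 0x14000000800000]
def C1 : List ℕ := [nat_lit 0xc0100c0402803, nat_lit 0x28010140901400, nat_lit 0x28040240602808, nat_lit 0x100a00c0802808, nat_lit 0x24050000102806, nat_lit 0x180a0200101c02]
def C2 : List ℕ := [nat_lit 0x28070000400c05, nat_lit 0x24080140101806, nat_lit 0x180900c0300807, nat_lit 0x10030140101000, nat_lit 0x4060180200c06, nat_lit 0xc0201c0500808]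
def C3 : List ℕ := [nat_lit 0x8060200800003, nat_lit 0x1c0a0280a0140a, nat_lit 0x4010200602404, nat_lit 0x200000c0901403, nat_lit 0x28050280400401, nat_lit 0x18090100a02803]
def C4 : List ℕ := [nat_lit 0x20060000701805, nat_lit 0x8030100201803, nat_lit 0x14020040300404, nat_lit 0x1c060140301400, nat_lit 0x80600c0902007, nat_lit 0xc01010060240a]
def C5 : List ℕ := [nat_lit 0x80a0040602007, nat_lit 0x240000c040240a, nat_lit 0x14070140200809, nat_lit 0x180801c090040a, nat_lit 0x10090280200008, nat_lit 0x8020240601006]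
def C6 : List ℕ := [nat_lit 0x18080280902807, nat_lit 0x10000040202408, nat_lit 0x18020240201006, nat_lit 0x240a01c0500c01, nat_lit 0x809020070000a, nat_lit 0x8040180502402]
def C7 : List ℕ := [nat_lit 0x280500c0300c06, nat_lit 0x80001c0001c08, nat_lit 0x1c0a0240901002, nat_lit 0xc030180101808, nat_lit 0x70200900004, nat_lit 0x24040080400402]
def C8 : List ℕ := [nat_lit 0x8040200202006, nat_lit 0x4000180401c03, nat_lit 0x10090040900003, nat_lit 0x8080180901c03, nat_lit 0x100700c0a00005, nat_lit 0x240000c070080a]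
def C9 : List ℕ := [nat_lit 0xc020240a00007, nat_lit 0x18010140600401, nat_lit 0x200a0040801c03, nat_lit 0x280001c0802402, nat_lit 0x18010040502806, nat_lit 0x200700c030040a]
def C10 : List ℕ := [nat_lit 0x40901c0a02005, nat_lit 0x4090080a02408, nat_lit 0x8030040200801, nat_lit 0x28080140a00804, nat_lit 0x28090200a00809, nat_lit 0x802004090200a]
def C11 : List ℕ := [nat_lit 0x28090100102005, nat_lit 0x20020080202408, nat_lit 0x240a028020280a, nat_lit 0x4080140100807, nat_lit 0x8090200302409, nat_lit 0x80a0280200401]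
def C12 : List ℕ := [nat_lit 0x60000702806, nat_lit 0x14000140a0240a, nat_lit 0x60000602807, nat_lit 0x1c0a0180001400, nat_lit 0x28090280600006, nat_lit 0x180a01c0001400]
def C13 : List ℕ := [nat_lit 0x14030180800c0a, nat_lit 0x8040240800c06, nat_lit 0x240a0180400403, nat_lit 0x20030280602005, nat_lit 0x20030180901c02, nat_lit 0x100100c0200405]
def C : List (List ℕ) := [C0, C1, C2] ++ [C3, C4, C5, C6, C7, C8, C9, C10, C11, C12, C13]
def SL : List (List ℕ) := [[nat_lit 1],
  [nat_lit 2],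
  [nat_lit 2, nat_lit 3, nat_lit 3, nat_lit 4, nat_lit 4, nat_lit 1, nat_lit 4, nat_lit 3],
  [nat_lit 5],
  [nat_lit 4, nat_lit 1, nat_lit 4, nat_lit 1, nat_lit 1, nat_lit 1, nat_lit 1, nat_lit 4],
  [nat_lit 7],
  [nat_lit 5, nat_lit 7, nat_lit 5, nat_lit 5, nat_lit 5, nat_lit 7, nat_lit 6],
  [nat_lit 9, nat_lit 9, nat_lit 9, nat_lit 9, nat_lit 9, nat_lit 9, nat_lit 9, nat_lit 9, nat_lit 9, nat_lit 9, nat_lit 9],
  [nat_lit 10],
  [nat_lit 10, nat_lit 10, nat_lit 10, nat_lit 10, nat_lit 10, nat_lit 10, nat_lit 10, nat_lit 10, nat_lit 5, nat_lit 5, nat_lit 11, nat_lit 8, nat_lit 6, nat_lit 10],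
  [nat_lit 11, nat_lit 11, nat_lit 11, nat_lit 11, nat_lit 12, nat_lit 10, nat_lit 10, nat_lit 10, nat_lit 10, nat_lit 10, nat_lit 10, nat_lit 12, nat_lit 10, nat_lit 2, nat_lit 2, nat_lit 12, nat_lit 11]]
def σ : List ℕ := [nat_lit 10, nat_lit 11, nat_lit 12, nat_lit 13]
def E : List (List ℕ) := [[],
  [],
  [],
  [nat_lit 0, nat_lit 0],
  [],
  [],
  [],
  [],
  [],
  [],
  [nat_lit 0, nat_lit 0],
  [],
  [nat_lit 0, nat_lit 0],
  [nat_lit 0, nat_lit 0],
  [],
  [],
  [nat_lit 0, nat_lit 0],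
  [nat_lit 0, nat_lit 0],
  [nat_lit 0],
  [],
  [],
  [],
  []]
def b0 : GG := glR (matR (ixF 3) om 2 10 C0) (matR (ixF 3) om 2 10 [nat_lit 0x200000005, nat_lit 0x80000001400, nat_lit 0x20000000500000])
  (by decide +kernel)
theorem col0 : Cols q (rhoGL _ _) (eR (ixF 3) om) ⊥ b0 C0 := cols_R (s := 2) (ixF 3) om rfl (by decide +kernel)
def b1 : GG := glR (matR (ixF 3) om 2 10 C1) (matR (ixF 3) om 2 10 [nat_lit 0x8060200800003, nat_lit 0x1c0a0280a0140a, nat_lit 0x4010200602404])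
  (by decide +kernel)
theorem col1 : Cols q (rhoGL _ _) (eR (ixF 3) om) ⊥ b1 C1 := cols_R (s := 2) (ixF 3) om rfl (by decide +kernel)
def b2 : GG := glR (matR (ixF 3) om 2 10 C2) (matR (ixF 3) om 2 10 [nat_lit 0x20060000701805, nat_lit 0x8030100201803, nat_lit 0x14020040300404])
  (by decide +kernel)
theorem col2 : Cols q (rhoGL _ _) (eR (ixF 3) om) ⊥ b2 C2 := cols_R (s := 2) (ixF 3) om rfl (by decide +kernel)

theorem slpe_a : allZ2 (slpEnt (nat_lit 6) (nat_lit 10) (nat_lit 1023) (nat_lit 11) C (nat_lit 3) SL) (nat_lit 11) (nat_lit 6) = true := by decide +kernel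
theorem rele_a : allZ2 (relEnt (nat_lit 6) (nat_lit 10) (nat_lit 1023) (nat_lit 11) C (nat_lit 14) σ U311.Rl E) (nat_lit 23) (nat_lit 3) = true := by decide +kernel
theorem misc : q.OK ∧ SL.length = 11 ∧ U311.Rl.length = 23 ∧ allL (ltAll 1) E = true := by decide +kernel

theorem slpe : ∀ k < 11, ∀ i < 6, (slpEnt (nat_lit 6) (nat_lit 10) (nat_lit 1023) (nat_lit 11) C (nat_lit 3) SL) k i = 0 := allZ2_sound slpe_a
theorem rele : ∀ k < 23, ∀ i < 3, (relEnt (nat_lit 6) (nat_lit 10) (nat_lit 1023) (nat_lit 11) C (nat_lit 14) σ U311.Rl E) k i = 0 := allZ2_sound rele_a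
noncomputable def o : List GG := [b0, b1, b2]
theorem amb : Amb q (rhoGL _ _) (eR (ixF 3) om) ⊥ := amb_GL misc.1 (by decide +kernel)
noncomputable def hs : ℕ → GG := slpG SL (tup o) o.length
theorem mact : MAct q (rhoGL _ _) (eR (ixF 3) om) ⊥ hs C 14 :=
  (mact_tup (.cons col0 (.cons col1 (.cons col2 .nil)))).slp amb (misc.2.1 ▸ slpe)
/-- the letters of the model as matrices -/
noncomputable def h : ℕ → GG := fun k => hs (nth 0 σ k)
theorem h_mem {A : Subgroup GG} (hA : ∀ a ∈ o, a ∈ A) (k : ℕ) : h k ∈ A := lnk_mem hA SL σ k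
theorem rels_of {Q : Type*} [Group Q] (π : GG →* Q) (hz : π b0 = 1) : Rels (fun k => π (h k)) U311.Rl :=
  mact.rels_z amb (rigid_R _ _) (by decide) misc.2.2 rele π ((congrArg π (slpG_zero SL b0 _)).trans hz)
theorem word_eq {W : List ℕ} {M : Matrix (Fin 3) (Fin 3) F121} (hc : ltAll 14 (W.map (nth 0 σ)) = 0 ∧ ∀ j,
    ∀ x ∈ [apM q.w q.m q.p C (W.map (nth 0 σ)) (unitV q.w (((ixF 3)).idx j))], ∀ i,
      M i j = valR om 3 2 q.w x (((ixF 3)).idx i)) : ((evA h W : GG) : Matrix (Fin 3) (Fin 3) F121) = M := by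
  have := eq_word (s := 2) amb rfl (by decide) mact hc
  rwa [evA_map] at this
theorem ne : h 2 * h 0 ≠ h 0 * h 2 := fun e => by
  have h1 := word_eq (W := [0, 2]) (M := matR (ixF 3) om 2 10 [nat_lit 0x240900c0902403, nat_lit 0x40a0000700409, nat_lit 0x10090140202003, nat_lit 0x240900c0200808, nat_lit 0x1c010240a00400, nat_lit 0x80800c0700806]) (by decide +kernel)
  have h2 := word_eq (W := [2, 0]) (M := matR (ixF 3) om 2 10 [nat_lit 0x80a01c0302806, nat_lit 0x901c0800004, nat_lit 0x405008000140a, nat_lit 0xc0a0180900404, nat_lit 0x20000100000804, nat_lit 0x50280a01809]) (by decide +kernel)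
  simp only [evA_cons, evA_nil, one_mul] at h1 h2
  exact absurd (h1.symm.trans ((congrArg Units.val e).trans h2)) (by decide +kernel)
theorem b0_cen : b0 ∈ Subgroup.center GG := center_of_scalar (c := ⟨5, 3⟩) (by decide +kernel)
theorem m2 : b2 ∈ GU 3 F121 11 := (H11.mem_GU_iff_matrix card_F121 3 _).2 (by decide +kernel)
theorem m1 : b1 ∈ GU 3 F121 11 := (H11.mem_GU_iff_matrix card_F121 3 _).2 (by decide +kernel)
theorem m0 : b0 ∈ GU 3 F121 11 := (H11.mem_GU_iff_matrix card_F121 3 _).2 (by decide +kernel)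
theorem mem : ∀ k, h k ∈ GU 3 F121 11 := h_mem (all_cons m0 (all_cons m1 (all_cons m2 all_nil)))
theorem cardX : Nat.card (PSU 3 F121 11) = 70915680 := by
  have := H11.card_psu (F := F121) (q := 11) rfl (n := 3) (by norm_num)
  simp [Finset.prod_range_succ, Nat.even_add_one] at this
  omega
theorem equiv : Nonempty (gen U311.g 4 ≃* PSU 3 F121 11) :=
  have := U311.simple
  link_psu U311.bound U311.rels U311.card (by norm_num) (by decide) (rels_of _ ((QuotientGroup.eq_one_iff _).2 b0_cen)) ne mem cardX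

end H16.LU311
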